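import Cfsg.Prelude.Def_LieExceptional
import Cfsg.Agent.Cores.Fitting
import Mathlib

/-!
# Finite groups with nilpotent centralisers: first properties
-/

namespace Cfsg.Agent.CharInd.CN

open Subgroup

universe u

variable {G : Type u} [Group G] [Finite G]

/-- Elements of coprime orders of a nilpotent subgroup commute. -/
theorem commute_of_nilpotent {H : Subgroup G} (hH : Group.IsNilpotent H) {a b : G} (ha : a ∈ H)
    (hb : b ∈ H) (hc : (orderOf a).Coprime (orderOf b)) : a * b = b * a := by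
  obtain ⟨e⟩ := ((Group.isNilpotent_of_finite_tfae (G := H)).out 0 4 rfl rfl).1 hH
  have hc' : (orderOf (⟨a, ha⟩ : H)).Coprime (orderOf (⟨b, hb⟩ : H)) := by
    rwa [← Subgroup.orderOf_coe, ← Subgroup.orderOf_coe]
  have : (⟨a, ha⟩ : H) * ⟨b, hb⟩ = ⟨b, hb⟩ * ⟨a, ha⟩ := by
    apply e.symm.injective
    rw [map_mul, map_mul]
    funext p P
    have hcP : ((orderOf ((e.symm ⟨a, ha⟩) p P))).Coprime (orderOf ((e.symm ⟨b, hb⟩) p P)) := by
      have h1 : orderOf ((e.symm ⟨a, ha⟩) p P) ∣ orderOf (⟨a, ha⟩ : H) := by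
        apply orderOf_dvd_of_pow_eq_one
        rw [← Pi.pow_apply, ← Pi.pow_apply, ← map_pow, pow_orderOf_eq_one, map_one]
        rfl
      have h2 : orderOf ((e.symm ⟨b, hb⟩) p P) ∣ orderOf (⟨b, hb⟩ : H) := by
        apply orderOf_dvd_of_pow_eq_one
        rw [← Pi.pow_apply, ← Pi.pow_apply, ← map_pow, pow_orderOf_eq_one, map_one]
        rfl
      exact (hc'.coprime_dvd_left h1).coprime_dvd_right h2
    haveI : Fact (p : ℕ).Prime := ⟨Nat.prime_of_mem_primeFactors p.2⟩
    obtain ⟨i, hi⟩ := (IsPGroup.iff_orderOf).1 P.2 ((e.symm ⟨a, ha⟩) p P)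
    obtain ⟨j, hj⟩ := (IsPGroup.iff_orderOf).1 P.2 ((e.symm ⟨b, hb⟩) p P)
    rw [hi, hj] at hcP
    rcases Nat.eq_zero_or_pos i with rfl | hi0
    · rw [pow_zero, orderOf_eq_one_iff] at hi
      simp [hi]
    rcases Nat.eq_zero_or_pos j with rfl | hj0
    · rw [pow_zero, orderOf_eq_one_iff] at hj
      simp [hj]
    exfalso
    rw [Nat.coprime_pow_left_iff hi0, Nat.coprime_pow_right_iff hj0, Nat.coprime_self] at hcP
    exact (Fact.out : (p : ℕ).Prime).ne_one hcP
  exact congrArg Subtype.val this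

/-- In a nilpotent subgroup, subgroups of coprime orders centralise each other. -/
theorem le_centralizer_of_nilpotent {H A B : Subgroup G} (hH : Group.IsNilpotent H) (hA : A ≤ H)
    (hB : B ≤ H) (hc : (Nat.card A).Coprime (Nat.card B)) : A ≤ centralizer (B : Set G) := by
  intro a ha
  rw [mem_centralizer_iff]
  intro b hb
  exact (commute_of_nilpotent hH (hA ha) (hB hb)
    ((hc.coprime_dvd_left (Subgroup.orderOf_dvd_natCard A ha)).coprime_dvd_right
      (Subgroup.orderOf_dvd_natCard B hb))).symm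

omit [Finite G] in
theorem mem_centralizer_singleton_of_comm {a b : G} (h : a * b = b * a) :
    a ∈ centralizer ({b} : Set G) :=
  mem_centralizer_singleton_iff.2 h

/-- Transfer of commuting through a nontrivial element: if `a` and `b` have coprime orders and
both commute with `z`, they commute. -/
theorem commute_of_common (hCN : Cfsg.IsCNGroup G) {z a b : G} (hz : z ≠ 1) (ha : a * z = z * a)
    (hb : b * z = z * b) (hc : (orderOf a).Coprime (orderOf b)) : a * b = b * a :=
  commute_of_nilpotent (hCN z hz) (mem_centralizer_singleton_of_comm ha)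
    (mem_centralizer_singleton_of_comm hb) hc

omit [Finite G] in
/-- Subgroups of CN-groups are CN. -/
theorem isCNGroup_subgroup (hCN : Cfsg.IsCNGroup G) (H : Subgroup G) : Cfsg.IsCNGroup H := by
  intro g hg
  have hg' : (g : G) ≠ 1 := fun h => hg (Subtype.ext h)
  haveI := hCN _ hg'
  let f : centralizer ({g} : Set H) →* centralizer ({(g : G)} : Set G) :=
    { toFun := fun x => ⟨((x : H) : G), mem_centralizer_singleton_iff.2
        (congrArg Subtype.val (mem_centralizer_singleton_iff.1 x.2))⟩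
      map_one' := rfl
      map_mul' := fun _ _ => rfl }
  refine Subgroup.isNilpotent_of_ker_le_center f (le_of_eq_of_le ((MonoidHom.ker_eq_bot_iff f).2 fun a b e => ?_) bot_le)
  exact Subtype.ext (Subtype.ext (congrArg (fun y : centralizer ({(g : G)} : Set G) => (y : G)) e))

/-- A nontrivial subgroup normalised by `P` has, if it is a `p`-group, a nontrivial element
centralised by `P`, for a `p`-group `P`. -/
theorem exists_fixed {p : ℕ} [Fact p.Prime] {P R : Subgroup G} (hP : IsPGroup p P)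
    (hR : IsPGroup p R) (hR1 : R ≠ ⊥) (hPR : P ≤ normalizer (R : Set G)) :
    ∃ z ∈ R, z ≠ 1 ∧ ∀ x ∈ P, x * z = z * x := by
  classical
  letI : MulAction P R :=
    { smul := fun x r => ⟨x * r * (x : G)⁻¹, (mem_normalizer_iff.1 (hPR x.2) r).1 r.2⟩
      one_smul := fun r => Subtype.ext (by
        show ((1 : P) : G) * r * ((1 : P) : G)⁻¹ = r; simp)
      mul_smul := fun x y r => Subtype.ext (by
        show ((x * y : P) : G) * r * ((x * y : P) : G)⁻¹ = x * (y * r * (y : G)⁻¹) * (x : G)⁻¹
        simp [mul_assoc]) }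
  obtain ⟨k, hk⟩ := (IsPGroup.iff_card).1 hR
  have hk0 : k ≠ 0 := by
    rintro rfl
    rw [pow_zero] at hk
    exact hR1 (Subgroup.card_eq_one.1 hk)
  have hfix : (1 : R) ∈ MulAction.fixedPoints P R := fun x => Subtype.ext (by
    show (x : G) * ((1 : R) : G) * (x : G)⁻¹ = ((1 : R) : G)
    simp)
  obtain ⟨b, hb, hne⟩ := hP.exists_fixed_point_of_prime_dvd_card_of_fixed_point R
    (hk ▸ dvd_pow_self p hk0) hfix
  refine ⟨b, b.2, fun h => hne (Subtype.ext h.symm), fun x hx => ?_⟩
  have := congrArg Subtype.val (hb ⟨x, hx⟩)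
  exact mul_inv_eq_iff_eq_mul.1 this

/-- A `p'`-element commuting with a nontrivial element that also centralises a `p`-subgroup `R`
centralises `R`. -/
theorem mem_centralizer_of_common (hCN : Cfsg.IsCNGroup G) {p : ℕ} [Fact p.Prime] {R : Subgroup G}
    (hR : IsPGroup p R) {z x : G} (hz : z ≠ 1) (hRz : ∀ r ∈ R, r * z = z * r)
    (hxz : x * z = z * x) (hx : (orderOf x).Coprime p) : x ∈ centralizer (R : Set G) := by
  rw [mem_centralizer_iff]
  intro r hr
  refine (commute_of_common hCN hz hxz (hRz r hr) ?_).symm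
  obtain ⟨i, hi⟩ := (IsPGroup.iff_orderOf).1 hR ⟨r, hr⟩
  rw [← Subgroup.orderOf_coe] at hi
  rw [show orderOf r = p ^ i from hi]
  exact hx.pow_right i

omit [Finite G] in
theorem coprime_of_orderOf_pow {p : ℕ} {x : G} {i : ℕ} {y : G} (hy : orderOf y = p ^ i)
    (hx : (orderOf x).Coprime p) : (orderOf x).Coprime (orderOf y) := by
  rw [hy]; exact hx.pow_right i

/-- A `p`-element commuting with a `p'`-element that normalises a nontrivial `p`-group `R`
forces the latter to centralise the elements of `R` fixed by the former. -/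
theorem exists_common (hCN : Cfsg.IsCNGroup G) {p : ℕ} [Fact p.Prime] {R : Subgroup G}
    (hR : IsPGroup p R) (hR1 : R ≠ ⊥) {u x : G} (hu1 : u ≠ 1) {i : ℕ} (hu : orderOf u = p ^ i)
    (huR : u ∈ normalizer (R : Set G)) (hxu : x * u = u * x) (hx : (orderOf x).Coprime p) :
    ∃ r ∈ R, r ≠ 1 ∧ x * r = r * x := by
  obtain ⟨r, hr, hr1, hfix⟩ := exists_fixed (P := zpowers u)
    (IsPGroup.iff_card.2 ⟨i, by rw [Nat.card_zpowers, hu]⟩) hR hR1 (zpowers_le.2 huR)
  refine ⟨r, hr, hr1, commute_of_common hCN hu1 hxu ?_ ?_⟩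
  · exact (hfix u (mem_zpowers u)).symm
  · obtain ⟨j, hj⟩ := (IsPGroup.iff_orderOf).1 hR ⟨r, hr⟩
    rw [← Subgroup.orderOf_coe] at hj
    exact coprime_of_orderOf_pow hj hx

end Cfsg.Agent.CharInd.CN
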