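import Cfsg.Agent.CharInd.CN.Piece
import Cfsg.Agent.BlkChar.GalAvg

/-!
# The counting argument against a minimal counterexample
-/

noncomputable section

namespace Cfsg.Agent.CharInd.CN

open scoped ComplexConjugate BigOperators
open Finset

universe u

attribute [local instance 2000] subFintype

set_option maxHeartbeats 4000000

variable {G : Type u} [Group G] [Fintype G]

/-- Representatives of the conjugacy classes of Hall parts. -/
theorem exists_reps (hm : Minimal G) :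
    ∃ (r : ℕ) (Hs : Fin r → Subgroup G), 0 < r ∧ (∀ i, IsHallPart (Hs i)) ∧
      (∀ x : G, x ≠ 1 → ∃ i, ∃ g : G, g⁻¹ * x * g ∈ Hs i) ∧
      ∀ (x : G) (i j : Fin r) (g k : G), x ≠ 1 → g⁻¹ * x * g ∈ Hs i → k⁻¹ * x * k ∈ Hs j → i = j := by
  classical
  let S := {H : Subgroup G // IsHallPart H}
  letI st : Setoid S :=
    { r := fun A B => ∃ g : G, A.1.map (MulAut.conj g : G →* G) = B.1
      iseqv := by
        refine ⟨fun A => ⟨1, ?_⟩, ?_, ?_⟩
        · ext x; simp
        · rintro A B ⟨g, hg⟩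
          refine ⟨g⁻¹, ?_⟩
          rw [← hg, Subgroup.map_map]
          ext x
          simp [mul_assoc]
        · rintro A B C ⟨g, hg⟩ ⟨k, hk⟩
          refine ⟨k * g, ?_⟩
          rw [← hk, ← hg, Subgroup.map_map]
          congr 1
          ext x
          simp [mul_assoc] }
  haveI : Finite S := Subtype.finite
  haveI : Finite (Quotient st) := Finite.of_surjective _ (Quotient.mk_surjective (s := st))
  let eq := Finite.equivFin (Quotient st)
  refine ⟨Nat.card (Quotient st), fun i => (eq.symm i).out.1, ?_, fun i => (eq.symm i).out.2, ?_, ?_⟩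
  · haveI := hm.simple
    obtain ⟨x, hx⟩ := exists_ne (1 : G)
    obtain ⟨H, hH, -⟩ := exists_isHallPart hm hx
    haveI : Nonempty (Quotient st) := ⟨Quotient.mk st ⟨H, hH⟩⟩
    exact Nat.card_pos
  · intro x hx
    obtain ⟨H, hH, hxH⟩ := exists_isHallPart hm hx
    obtain ⟨g, hg⟩ := Quotient.mk_out (s := st) ⟨H, hH⟩
    refine ⟨eq (Quotient.mk st ⟨H, hH⟩), g, ?_⟩
    simp only [Equiv.symm_apply_apply]
    obtain ⟨y, hy, hyx⟩ := hg.ge hxH
    rw [← hyx]
    simpa [mul_assoc] using hy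
  · intro x i j g k hx hi hj
    have h1 := ((eq.symm i).out.2.map g)
    have h2 := ((eq.symm j).out.2.map k)
    have e : (eq.symm i).out.1.map (MulAut.conj g : G →* G) =
        (eq.symm j).out.1.map (MulAut.conj k : G →* G) :=
      h1.eq h2 ⟨_, hi, by simp [mul_assoc]⟩ ⟨_, hj, by simp [mul_assoc]⟩ hx
    have hrel : (eq.symm i).out ≈ (eq.symm j).out := by
      refine ⟨k⁻¹ * g, ?_⟩
      have e2 := congrArg (Subgroup.map (MulAut.conj k⁻¹ : G →* G)) e
      rw [Subgroup.map_map, Subgroup.map_map] at e2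
      convert e2 using 1
      · congr 1; ext y; simp [mul_assoc]
      · ext y; simp [mul_assoc]
    exact eq.symm.injective (Quotient.out_equiv_out.1 hrel)

theorem supp_one {H : Subgroup G} {f : G → ℂ} (hf : Supp H f) : f 1 = 0 :=
  hf 1 fun x _ => by simp

open Classical in
/-- Splitting a sum over the nontrivial elements along the Hall parts. -/
theorem sum_ne_one {r : ℕ} {Hs : Fin r → Subgroup G} (hH : ∀ i, IsHallPart (Hs i))
    (hcov : ∀ x : G, x ≠ 1 → ∃ i, ∃ g : G, g⁻¹ * x * g ∈ Hs i)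
    (huniq : ∀ (x : G) (i j : Fin r) (g k : G), x ≠ 1 → g⁻¹ * x * g ∈ Hs i → k⁻¹ * x * k ∈ Hs j →
      i = j)
    (F : G → ℝ) (hF : ∀ g h : G, F (h * g * h⁻¹) = F g) :
    ∑ x ∈ univ.filter (fun x : G => x ≠ 1), F x =
      ∑ i, (Nat.card G : ℝ) / Nat.card (Subgroup.normalizer (Hs i : Set G)) *
        ∑ x ∈ univ.filter (fun x : G => x ∈ Hs i ∧ x ≠ 1), F x := by
  have hcount : ∀ i, (Nat.card G : ℝ) * ∑ x ∈ univ.filter (fun x : G => x ∈ Hs i ∧ x ≠ 1), F x =
      ∑ x : G, (#{g : G | g⁻¹ * x * g ∈ Hs i ∧ g⁻¹ * x * g ≠ 1} : ℝ) * F x := by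
    intro i
    have h1 : ∀ g : G, ∑ x ∈ univ.filter (fun x : G => x ∈ Hs i ∧ x ≠ 1), F x =
        ∑ x : G, if g⁻¹ * x * g ∈ Hs i ∧ g⁻¹ * x * g ≠ 1 then F x else 0 := by
      intro g
      rw [Finset.sum_filter]
      refine Fintype.sum_equiv (MulAut.conj g).toEquiv _ _ fun y => ?_
      simp only [MulEquiv.toEquiv_eq_coe, EquivLike.coe_coe, MulAut.conj_apply, hF]
      rw [show g⁻¹ * (g * y * g⁻¹) * g = y by group]
    rw [Nat.card_eq_fintype_card, ← Finset.card_univ, ← nsmul_eq_mul, ← Finset.sum_const,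
      Finset.sum_congr rfl (fun g _ => h1 g), Finset.sum_comm]
    refine Finset.sum_congr rfl fun x _ => ?_
    rw [← Finset.sum_filter, Finset.sum_const, nsmul_eq_mul]
  have hN : ∀ x : G, x ≠ 1 → ∀ i, (∃ g : G, g⁻¹ * x * g ∈ Hs i) →
      #{g : G | g⁻¹ * x * g ∈ Hs i ∧ g⁻¹ * x * g ≠ 1} =
        Nat.card (Subgroup.normalizer (Hs i : Set G)) := by
    rintro x hx i ⟨g₀, hg₀⟩
    have hne : ∀ g : G, g⁻¹ * x * g ≠ 1 := fun g h => hx (by
      have := congrArg (fun y => g * y * g⁻¹) h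
      simpa [mul_assoc] using this)
    rw [Nat.card_eq_fintype_card, Fintype.card_of_subtype
      (Finset.univ.filter fun m : G => m ∈ Subgroup.normalizer (Hs i : Set G)) (fun m => by simp)]
    refine Finset.card_bij (fun g _ => g₀⁻¹ * g) ?_ ?_ ?_
    · intro g hg
      simp only [Finset.mem_filter, Finset.mem_univ, true_and] at hg ⊢
      have h2 : (g₀⁻¹ * g)⁻¹ * (g₀⁻¹ * x * g₀) * (g₀⁻¹ * g)⁻¹⁻¹ ∈ Hs i := by
        convert hg.1 using 1
        group
      simpa using inv_mem ((hH i).mem_normalizer hg₀ (hne g₀) h2)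
    · intro a _ b _ e
      exact mul_left_cancel e
    · intro m hm
      simp only [Finset.mem_filter, Finset.mem_univ, true_and] at hm ⊢
      refine ⟨g₀ * m, ⟨?_, hne _⟩, by group⟩
      have h3 := (Subgroup.mem_normalizer_iff.1 (inv_mem hm) (g₀⁻¹ * x * g₀)).1 hg₀
      convert h3 using 1
      group
  rw [Finset.sum_filter]
  have hR : ∀ i, (Nat.card G : ℝ) / Nat.card (Subgroup.normalizer (Hs i : Set G)) *
      ∑ x ∈ univ.filter (fun x : G => x ∈ Hs i ∧ x ≠ 1), F x =
      ∑ x : G, (#{g : G | g⁻¹ * x * g ∈ Hs i ∧ g⁻¹ * x * g ≠ 1} : ℝ) /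
        Nat.card (Subgroup.normalizer (Hs i : Set G)) * F x := by
    intro i
    rw [div_mul_eq_mul_div, hcount i, Finset.sum_div]
    exact Finset.sum_congr rfl fun x _ => (div_mul_eq_mul_div _ _ _).symm
  simp only [hR]
  rw [Finset.sum_comm]
  refine Finset.sum_congr rfl fun x _ => ?_
  rw [← Finset.sum_mul]
  by_cases hx : x = 1
  · subst hx
    simp
  · rw [if_pos hx]
    obtain ⟨i, g, hg⟩ := hcov x hx
    rw [Finset.sum_eq_single i, hN x hx i ⟨g, hg⟩, div_self (Nat.cast_ne_zero.2 Nat.card_pos.ne'),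
      one_mul]
    · intro j _ hj
      rw [Finset.card_eq_zero.2, Nat.cast_zero, zero_div]
      refine Finset.filter_eq_empty_iff.2 fun k _ hk => hj ?_
      exact huniq x j i k g hx hk.1 hg
    · exact fun h => absurd (Finset.mem_univ i) h

/-- A function equal to plus or minus `χ` minus its conjugate. -/
def Pairlike (f : G → ℂ) (χ : Cfsg.IrrCharacter G) : Prop :=
  Char.conjIrr χ ≠ χ ∧ ∃ s : ℂ, s * conj s = 1 ∧ f = s • ((χ : G → ℂ) - (Char.conjIrr χ : G → ℂ))

theorem pairlike_disjoint {f f' : G → ℂ} {χ : Cfsg.IrrCharacter G} (h : Pairlike f χ)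
    (h' : Pairlike f' χ) : Cfsg.classInner f f' ≠ 0 := by
  classical
  obtain ⟨hne, s, hs, rfl⟩ := h
  obtain ⟨-, s', hs', rfl⟩ := h'
  rw [Char.classInner_smul_left, Char.classInner_smul_right, Char.classInner_sub_left,
    Char.classInner_sub_right, Char.classInner_sub_right]
  simp only [Char.classInner_irrCharacter, if_pos True.intro, if_neg hne, if_neg hne.symm]
  have h1 : s ≠ 0 := left_ne_zero_of_mul_eq_one hs
  have h2 : conj s' ≠ 0 := right_ne_zero_of_mul_eq_one hs'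
  refine mul_ne_zero h1 (mul_ne_zero h2 ?_)
  norm_num

theorem pairlike_of_norm_two {f : G → ℂ} (hf : Cfsg.IsGeneralizedCharacter G f) (h1 : f 1 = 0)
    (h2 : Cfsg.classInner f f = 2) (hc : (fun g => conj (f g)) = -f) {χ : Cfsg.IrrCharacter G}
    (hχ : Cfsg.classInner (χ : G → ℂ) f ≠ 0) : Pairlike f χ := by
  classical
  obtain ⟨A, B, hAB, hf'⟩ := genChar_norm_two hf h1 h2
  have e : (Char.conjIrr A : G → ℂ) - (Char.conjIrr B : G → ℂ) = (B : G → ℂ) - (A : G → ℂ) := by
    funext g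
    have := congrFun hc g
    rw [hf'] at this
    simpa [Char.conjIrr_apply] using this
  have hne : Char.conjIrr A ≠ Char.conjIrr B := fun h =>
    hAB (by rw [← Char.conjIrr_conjIrr A, h, Char.conjIrr_conjIrr])
  obtain ⟨hA, hB⟩ := irr_sub_eq hne e
  rw [hf', Char.classInner_sub_right] at hχ
  simp only [Char.classInner_irrCharacter] at hχ
  by_cases hχA : χ = A
  · subst hχA
    refine ⟨hA ▸ hAB.symm, 1, by simp, ?_⟩
    rw [hA, one_smul]
    exact hf'
  · have hχB : χ = B := by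
      by_contra hχB
      rw [if_neg hχA, if_neg hχB, sub_zero] at hχ
      exact hχ rfl
    subst hχB
    refine ⟨hB ▸ hAB, -1, by simp, ?_⟩
    rw [hB, neg_smul, one_smul, neg_sub]
    exact hf'

theorem conjIrr_ne_self (hodd : Odd (Nat.card G)) {χ : Cfsg.IrrCharacter G}
    (h : χ ≠ Char.trivialIrr G) : Char.conjIrr χ ≠ χ := fun e =>
  h (Char.real_irr_eq_trivial hodd χ ((Char.conjIrr_eq_self_iff χ).1 e))

/-- A sum over conjugate pairs of an invariant function is even. -/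
theorem even_sum_conj (hodd : Odd (Nat.card G)) (s : Finset (Cfsg.IrrCharacter G))
    (h1 : Char.trivialIrr G ∉ s) (hs : ∀ χ ∈ s, Char.conjIrr χ ∈ s)
    (f : Cfsg.IrrCharacter G → ℤ) (hf : ∀ χ ∈ s, f (Char.conjIrr χ) = f χ) :
    Even (∑ χ ∈ s, f χ) := by
  rw [even_iff_two_dvd]
  refine (ZMod.intCast_zmod_eq_zero_iff_dvd (∑ χ ∈ s, f χ) 2).1 ?_
  push_cast
  refine Finset.sum_involution (fun χ _ => Char.conjIrr χ) (fun χ hχ => ?_) (fun χ hχ _ => ?_)
    hs (fun χ _ => Char.conjIrr_conjIrr χ)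
  · rw [hf χ hχ]
    exact CharTwo.add_self_eq_zero _
  · exact conjIrr_ne_self hodd (fun h => h1 (h ▸ hχ))

theorem conjIrr_trivial : Char.conjIrr (Char.trivialIrr G) = Char.trivialIrr G :=
  Subtype.ext (funext fun _ => map_one _)

/-- A Galois-closed nonvanishing set contributes at least its size. -/
theorem galois_sum {χ : G → ℂ} (hχ : Cfsg.IsCharacter G χ) (H : Subgroup G)
    (hne : ∀ g ∈ derSet H, χ g ≠ 0) :
    (#(derSet H) : ℝ) ≤ ∑ g ∈ derSet H, ‖χ g‖ ^ 2 := by
  classical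
  haveI : NeZero (Nat.card G) := ⟨Nat.card_pos.ne'⟩
  set n := Nat.card G
  have h1 : ∀ g ∈ derSet H, (Fintype.card (ZMod n)ˣ : ℝ) ≤
      ∑ a : (ZMod n)ˣ, ‖χ (GalAvg.powUnit a g)‖ ^ 2 := by
    intro g hg
    simp only [GalAvg.powUnit_apply]
    refine GalAvg.card_le_sum_norm_sq (GalAvg.isCharacter_pow_mem hχ g pow_card_eq_one') ⟨1, ?_⟩
    refine hne _ ?_
    have hv := (GalAvg.powUnit (1 : (ZMod n)ˣ) : G ≃ G)
    rw [mem_derSet] at hg ⊢
    refine ⟨(GalAvg.pow_unit_mem_iff 1 _ g).2 hg.1, fun h => hg.2 ?_⟩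
    exact (GalAvg.powUnit (1 : (ZMod n)ˣ)).injective (by simpa using h)
  have h2 := Finset.sum_le_sum h1
  rw [Finset.sum_comm, Finset.sum_const, nsmul_eq_mul] at h2
  have h3 : ∀ a : (ZMod n)ˣ, ∑ g ∈ derSet H, ‖χ (GalAvg.powUnit a g)‖ ^ 2 =
      ∑ g ∈ derSet H, ‖χ g‖ ^ 2 := by
    intro a
    refine Finset.sum_equiv (GalAvg.powUnit a) (fun g => ?_) (fun g _ => rfl)
    simp only [mem_derSet, GalAvg.powUnit_apply, GalAvg.pow_unit_mem_iff]
    refine and_congr_right fun _ => not_congr ⟨fun h => by simp [h], fun h => ?_⟩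
    exact (GalAvg.powUnit a).injective (by simpa using h)
  simp only [h3, Finset.sum_const, Finset.card_univ, nsmul_eq_mul] at h2
  have hpos : (0 : ℝ) < Fintype.card (ZMod n)ˣ := by exact_mod_cast Fintype.card_pos
  nlinarith

/-- There is no minimal counterexample. -/
theorem not_minimal (hm : Minimal G) : False := by
  classical
  obtain ⟨r, Hs, hr, hH, hcov, huniq⟩ := exists_reps hm
  have hodd := hm.odd
  have P := fun i => (exists_piece hodd (hH i)).some
  -- coefficients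
  have hint : ∀ i (χ : Cfsg.IrrCharacter G), ∃ c : ℤ, Cfsg.classInner (P i).Ψ (χ : G → ℂ) = c :=
    fun i χ => genChar_inner_int (P i).psi_gen χ.2
  choose c hc using hint
  have hc' : ∀ i (χ : Cfsg.IrrCharacter G), Cfsg.classInner (χ : G → ℂ) (P i).Ψ = c i χ :=
    fun i χ => by rw [← classInner_swap, hc, map_intCast]
  have hdisj : ∀ {i j}, i ≠ j → ∀ {f g : G → ℂ}, Supp (Hs i) f → Supp (Hs j) g →
      Cfsg.classInner f g = 0 := by
    intro i j hij f g hf hg
    simp only [Cfsg.classInner]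
    rw [Finset.sum_eq_zero, mul_zero]
    intro x _
    by_cases h1 : ∀ y : G, y⁻¹ * x * y ∈ Hs i → y⁻¹ * x * y = 1
    · rw [hf x h1, zero_mul]
    by_cases h2 : ∀ y : G, y⁻¹ * x * y ∈ Hs j → y⁻¹ * x * y = 1
    · rw [hg x h2, map_zero, mul_zero]
    push Not at h1 h2
    obtain ⟨y, hy, hy1⟩ := h1
    obtain ⟨w, hw, -⟩ := h2
    exact absurd (huniq x i j y w (fun h => hy1 (by simp [h])) hy hw) hij
  have hpair : ∀ i l, Pairlike (((P i).Λ l : G → ℂ) - ((P i).Λ ((P i).star l) : G → ℂ))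
      ((P i).Λ l) := by
    intro i l
    refine ⟨?_, 1, by simp, by rw [(P i).lam_conj, one_smul]⟩
    rw [(P i).lam_conj]
    exact fun h => (P i).star_ne l ((P i).lam_inj h)
  have hLdisj : ∀ {i j} l m, (P i).Λ l = (P j).Λ m → i = j := by
    intro i j l m e
    by_contra hij
    have h2 : Pairlike (((P j).Λ m : G → ℂ) - ((P j).Λ ((P j).star m) : G → ℂ)) ((P i).Λ l) := by
      rw [e]; exact hpair j m
    refine pairlike_disjoint (hpair i l) h2 ?_
    exact hdisj hij ((P i).lam_supp _ _) ((P j).lam_supp _ _)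
  let fam : Fin r → Finset (Cfsg.IrrCharacter G) := fun i => univ.image (P i).Λ
  have hfam : ∀ {i χ}, χ ∈ fam i ↔ ∃ l, (P i).Λ l = χ := by simp [fam]
  have hfamc : ∀ {i χ}, χ ∈ fam i → Char.conjIrr χ ∈ fam i := by
    intro i χ h
    obtain ⟨l, rfl⟩ := hfam.1 h
    exact hfam.2 ⟨_, ((P i).lam_conj l).symm⟩
  have hfamc' : ∀ {i χ}, χ ∉ fam i → Char.conjIrr χ ∉ fam i := fun {i χ} h h' =>
    h (Char.conjIrr_conjIrr χ ▸ hfamc h')
  have hcconj : ∀ {i χ}, χ ∉ fam i → c i (Char.conjIrr χ) = c i χ := by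
    intro i χ h
    have e1 : Cfsg.classInner (fun g => conj ((P i).Ψ g)) (χ : G → ℂ) = c i χ := by
      rw [(P i).psi_conj, Char.classInner_add_left, hc, Char.classInner_smul_left,
        Char.classInner_sub_left, Char.classInner_irr_ne ((P i).Λ _).2 χ.2
          (fun e => h (hfam.2 ⟨_, Subtype.ext e⟩)),
        Char.classInner_irr_ne ((P i).Λ _).2 χ.2 (fun e => h (hfam.2 ⟨_, Subtype.ext e⟩))]
      ring
    have e2 : Cfsg.classInner (fun g => conj ((P i).Ψ g)) (χ : G → ℂ) =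
        conj (Cfsg.classInner (P i).Ψ (Char.conjIrr χ : G → ℂ)) := by
      simp only [Cfsg.classInner, map_mul, map_inv₀, map_natCast, map_sum, Char.conjIrr_apply,
        Complex.conj_conj]
    rw [hc, map_intCast, e1] at e2
    exact_mod_cast e2.symm
  have hctriv : ∀ i, c i (Char.trivialIrr G) = 1 := by
    intro i
    have h1 : (c i (Char.trivialIrr G) : ℂ) = 1 := (hc i _).symm.trans (P i).psi_triv
    exact_mod_cast h1
  have hparseval : ∀ i j, Cfsg.classInner (P i).Ψ (P j).Ψ =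
      ((∑ χ, c i χ * c j χ : ℤ) : ℂ) := by
    intro i j
    rw [Char.classInner_eq_sum_mul_conj (genChar_isClassFunction (P i).psi_gen)]
    push_cast
    exact Finset.sum_congr rfl fun χ _ => by rw [hc, hc, map_intCast]
  have hcind : ∀ {j k}, j ≠ k → ∀ l m, c j ((P k).Λ l) = c j ((P k).Λ m) := by
    intro j k hjk l m
    have h1 := hdisj hjk (P j).psi_supp ((P k).lam_supp l m)
    rw [Char.classInner_sub_right, hc, hc, sub_eq_zero] at h1
    exact_mod_cast h1
  -- one of the two mixed coefficients is nonzero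
  have hedge : ∀ {j k}, j ≠ k → c j ((P k).Λ (P k).z) = 0 → ∀ m, c k ((P j).Λ m) ≠ 0 := by
    intro j k hjk hj m hk
    have h1 := hdisj hjk (P j).psi_supp (P k).psi_supp
    rw [hparseval, Int.cast_eq_zero, ← Finset.add_sum_erase _ _ (Finset.mem_univ (Char.trivialIrr G)),
      hctriv, hctriv] at h1
    have hev := even_sum_conj hodd (univ.erase (Char.trivialIrr G)) (by simp)
      (fun χ hχ => Finset.mem_erase.2 ⟨fun h => (Finset.mem_erase.1 hχ).1 (by
        rw [← Char.conjIrr_conjIrr χ, h, conjIrr_trivial]), Finset.mem_univ _⟩)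
      (fun χ => c j χ * c k χ) (fun χ _ => by
        by_cases hχk : χ ∈ fam k
        · obtain ⟨l, rfl⟩ := hfam.1 hχk
          rw [(P k).lam_conj, hcind hjk _ (P k).z, hcind hjk l (P k).z, hj]
          simp
        by_cases hχj : χ ∈ fam j
        · obtain ⟨l, rfl⟩ := hfam.1 hχj
          rw [(P j).lam_conj, hcind hjk.symm _ m, hcind hjk.symm l m, hk]
          simp
        rw [hcconj hχk, hcconj hχj])
    obtain ⟨w, hw⟩ := hev
    rw [hw] at h1
    omega
  -- the piece with fewest orbits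
  haveI : Nonempty (Fin r) := ⟨⟨0, hr⟩⟩
  obtain ⟨k, hk⟩ := Finite.exists_min (fun i => (P i).e)
  set Λ₀ := (P k).Λ (P k).z with hΛ₀
  have hres : ∀ i (χ : Cfsg.IrrCharacter G) (θ : Cfsg.IrrCharacter (Hs i)), ∃ m : ℤ,
      Cfsg.classInner (fun x : Hs i => (χ : G → ℂ) x) (θ : Hs i → ℂ) = m :=
    fun i χ θ => genChar_inner_int (genChar_of_isCharacter
      (Char.isCharacter_restrict (Char.isCharacter_of_irr χ.2) (Hs i))) θ.2
  choose mu hmu using hres
  have hmuc : ∀ i χ θ, mu i (Char.conjIrr χ) θ = mu i χ (Char.conjIrr θ) := by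
    intro i χ θ
    have e : Cfsg.classInner (fun x : Hs i => (Char.conjIrr χ : G → ℂ) x) (θ : Hs i → ℂ) =
        conj (Cfsg.classInner (fun x : Hs i => (χ : G → ℂ) x) (Char.conjIrr θ : Hs i → ℂ)) := by
      simp only [Cfsg.classInner, map_mul, map_inv₀, map_natCast, map_sum, Char.conjIrr_apply,
        Complex.conj_conj]
    rw [hmu, hmu, map_intCast] at e
    exact_mod_cast e
  let O : Finset (Cfsg.IrrCharacter G) :=
    univ.filter fun χ => χ ≠ Char.trivialIrr G ∧ χ ∉ fam k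
  have hO : ∀ {χ}, χ ∈ O ↔ χ ≠ Char.trivialIrr G ∧ χ ∉ fam k := by simp [O]
  have hOc : ∀ χ ∈ O, Char.conjIrr χ ∈ O := fun χ hχ => hO.2 ⟨fun h => (hO.1 hχ).1 (by
    rw [← Char.conjIrr_conjIrr χ, h, conjIrr_trivial]), hfamc' (hO.1 hχ).2⟩
  let Sbad : Finset (Fin r) := univ.filter fun i => ∃ χ ∈ O, ∃ θ : Cfsg.IrrCharacter (Hs i),
    (θ : Hs i → ℂ) 1 ≠ 1 ∧ c k χ * mu i χ θ ≠ c k χ * mu i χ (Char.conjIrr θ)
  -- the exceptional character does not vanish on good derived subgroups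
  have hnv : ∀ i, i ∉ Sbad → ∀ g ∈ derSet (Hs i), (Λ₀ : G → ℂ) g ≠ 0 := by
    intro i hi g hg hzero
    obtain ⟨hgd, hg1⟩ := mem_derSet.1 hg
    have hgH : g ∈ Hs i := Subgroup.commutator_le_self _ hgd
    have hgout : i ≠ k → ∀ y : G, y⁻¹ * g * y ∈ Hs k → y⁻¹ * g * y = 1 := by
      intro hik y hy
      exact absurd (huniq g i k 1 y hg1 (by simpa using hgH) hy) hik
    have hlam : ∀ l, ((P k).Λ l : G → ℂ) g = 0 := by
      intro l
      rw [← hzero, hΛ₀]
      rcases eq_or_ne i k with h | h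
      · exact (P k).lam_der l _ g (h ▸ hgd) hg1
      · exact sub_eq_zero.1 ((P k).lam_supp l (P k).z g (hgout h))
    have hpsi : (P k).Ψ g = 0 := by
      rcases eq_or_ne i k with h | h
      · exact (P k).psi_der g (h ▸ hgd)
      · exact (P k).psi_supp g (hgout h)
    have hexp := congrFun (Char.eq_sum_classInner_smul (genChar_isClassFunction (P k).psi_gen)) g
    simp only [Finset.sum_apply, Pi.smul_apply, smul_eq_mul, hc] at hexp
    rw [hpsi, ← Finset.add_sum_erase _ _ (Finset.mem_univ (Char.trivialIrr G)), hctriv,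
      ← Finset.sum_filter_add_sum_filter_not (univ.erase (Char.trivialIrr G)) (fun χ => χ ∈ fam k)]
      at hexp
    rw [Finset.sum_eq_zero (fun χ hχ => ?_), zero_add,
      show (univ.erase (Char.trivialIrr G)).filter (fun χ => χ ∉ fam k) = O by
        ext χ; simp [O]] at hexp
    swap
    · obtain ⟨l, rfl⟩ := hfam.1 (Finset.mem_filter.1 hχ).2
      rw [hlam l, mul_zero]
    -- expand the restrictions
    have hgθ : ∀ θ : Cfsg.IrrCharacter (Hs i), (θ : Hs i → ℂ) 1 = 1 →
        (θ : Hs i → ℂ) ⟨g, hgH⟩ = 1 := by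
      intro θ hθ
      refine Char.linear_eq_one_of_mem_commutator (Char.isCharacter_of_irr θ.2) hθ ?_
      have hmap : ⁅Hs i, Hs i⁆ = (commutator (Hs i)).map (Hs i).subtype := by
        rw [commutator_def, Subgroup.map_commutator, ← MonoidHom.range_eq_map,
          Subgroup.range_subtype]
      rw [hmap] at hgd
      obtain ⟨y, hy, hyg⟩ := hgd
      rwa [show (⟨g, hgH⟩ : Hs i) = y from Subtype.ext hyg.symm]
    have hres' : ∀ χ : Cfsg.IrrCharacter G, (χ : G → ℂ) g =
        ∑ θ : Cfsg.IrrCharacter (Hs i), (mu i χ θ : ℂ) * (θ : Hs i → ℂ) ⟨g, hgH⟩ := by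
      intro χ
      have := congrFun (Char.eq_sum_classInner_smul (Char.isCharacter_isClassFunction
        (Char.isCharacter_restrict (Char.isCharacter_of_irr χ.2) (Hs i)))) ⟨g, hgH⟩
      simpa [Finset.sum_apply, hmu] using this
    have hR : ∑ χ ∈ O, (c k χ : ℂ) * (χ : G → ℂ) g = ∑ θ : Cfsg.IrrCharacter (Hs i),
        ((∑ χ ∈ O, c k χ * mu i χ θ : ℤ) : ℂ) * (θ : Hs i → ℂ) ⟨g, hgH⟩ := by
      simp only [hres', Finset.mul_sum]
      rw [Finset.sum_comm]
      refine Finset.sum_congr rfl fun θ _ => ?_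
      push_cast
      rw [Finset.sum_mul]
      exact Finset.sum_congr rfl fun χ _ => (mul_assoc _ _ _).symm
    let lin : Finset (Cfsg.IrrCharacter (Hs i)) := univ.filter fun θ => (θ : Hs i → ℂ) 1 = 1
    have hlinc : ∀ θ, θ ∈ lin ↔ Char.conjIrr θ ∈ lin := fun θ => by
      simp only [lin, Finset.mem_filter, Finset.mem_univ, true_and, Char.conjIrr_apply]
      exact ⟨fun h => by rw [h, map_one], fun h => by
        have := congrArg conj h
        simpa using this⟩
    have hO1 : Char.trivialIrr G ∉ O := fun h => (hO.1 h).1 rfl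
    obtain ⟨w₁, hw₁⟩ := even_sum_conj hodd O hO1 hOc (fun χ => ∑ θ ∈ lin, c k χ * mu i χ θ)
      (fun χ hχ => by
        rw [hcconj (hO.1 hχ).2]
        refine Finset.sum_nbij' Char.conjIrr Char.conjIrr (fun θ h => (hlinc θ).1 h)
          (fun θ h => (hlinc θ).1 h) (fun θ _ => Char.conjIrr_conjIrr θ)
          (fun θ _ => Char.conjIrr_conjIrr θ) (fun θ _ => by rw [hmuc]))
    have hnl : ∀ θ : Cfsg.IrrCharacter (Hs i), θ ∉ lin → Even (∑ χ ∈ O, c k χ * mu i χ θ) := by
      intro θ hθ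
      refine even_sum_conj hodd O hO1 hOc _ fun χ hχ => ?_
      rw [hcconj (hO.1 hχ).2, hmuc]
      by_contra hne
      exact hi (Finset.mem_filter.2 ⟨Finset.mem_univ _, χ, hχ, θ, by simpa [lin] using hθ,
        Ne.symm hne⟩)
    choose w₂ hw₂ using hnl
    have hhalf : ∑ χ ∈ O, (c k χ : ℂ) * (χ : G → ℂ) g = 2 * ((w₁ : ℂ) +
        ∑ θ ∈ univ.filter (· ∉ lin),
          (if h : θ ∈ lin then 0 else (w₂ θ h : ℂ)) * (θ : Hs i → ℂ) ⟨g, hgH⟩) := by
      rw [hR, ← Finset.sum_filter_add_sum_filter_not univ (· ∈ lin), mul_add]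
      congr 1
      · rw [Finset.sum_congr rfl (fun θ hθ => by
          rw [hgθ θ (Finset.mem_filter.1 (Finset.mem_filter.1 hθ).2).2, mul_one]), Finset.filter_univ_mem,
          ← Int.cast_sum, Finset.sum_comm, hw₁]
        push_cast; ring
      · rw [Finset.mul_sum]
        refine Finset.sum_congr rfl fun θ hθ => ?_
        have h := (Finset.mem_filter.1 hθ).2
        rw [dif_neg h, hw₂ θ h]
        push_cast; ring
    rw [hhalf] at hexp
    set W : ℂ := (w₁ : ℂ) + ∑ θ ∈ univ.filter (· ∉ lin),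
          (if h : θ ∈ lin then 0 else (w₂ θ h : ℂ)) * (θ : Hs i → ℂ) ⟨g, hgH⟩ with hW
    have hWint : IsIntegral ℤ W := by
      refine (Char.isIntegral_of_int w₁).add (IsIntegral.sum _ fun θ hθ => ?_)
      rw [dif_neg (Finset.mem_filter.1 hθ).2]
      exact (Char.isIntegral_of_int _).mul
        (Char.isCharacter_isIntegral (Char.isCharacter_of_irr θ.2) _)
    have hW2 : ((-1 : ℤ) : ℂ) / (2 : ℕ) = W := by
      simp only [Char.trivialIrr, Int.cast_one, mul_one] at hexp
      push_cast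
      linear_combination (1 / 2 : ℂ) * hexp
    obtain ⟨j, hj⟩ := GalAvg.int_of_isIntegral_div (k := -1) (d := 2) (hW2 ▸ hWint)
    have hj' : ((2 * j : ℤ) : ℂ) = ((-1 : ℤ) : ℂ) := by
      push_cast
      push_cast at hj
      linear_combination (-2 : ℂ) * hj
    have := Int.cast_injective hj'
    omega
  -- witnesses for the bad indices
  have hwit : ∀ i : Sbad, ∃ χ : Cfsg.IrrCharacter G, ∃ τ : G → ℂ, χ ∈ O ∧ c k χ ≠ 0 ∧
      Pairlike τ χ ∧ Supp (Hs i) τ ∧
      ∀ l, Cfsg.classInner τ (((P i).Λ l : G → ℂ) - ((P i).Λ ((P i).star l) : G → ℂ)) = 0 := by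
    rintro ⟨i, hi⟩
    obtain ⟨-, χ, hχ, θ, hθ, hne⟩ := Finset.mem_filter.1 hi
    obtain ⟨τ, hτg, hτ1, hτs, hτ2, hτc, hτo, hτf⟩ := (P i).secondary θ θ.2 hθ
    refine ⟨χ, τ, hχ, fun h => hne (by simp [h]), pairlike_of_norm_two hτg hτ1 hτ2 hτc ?_, hτs, hτo⟩
    rw [hτf _ (Char.irr_isClassFunction χ.2)]
    intro h
    rw [show (fun x => conj ((θ : Hs i → ℂ) x)) = (Char.conjIrr θ : Hs i → ℂ) from rfl, hmu, hmu,
      sub_eq_zero, Int.cast_inj] at h
    exact hne (by rw [h])
  choose wχ wτ hwO hwc hwp hws hwo using hwit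
  -- the budget
  let T : Finset (Fin r) := univ.filter fun j => j ≠ k ∧ c j ((P k).Λ (P k).z) = 0
  have hT : ∀ {j}, j ∈ T ↔ j ≠ k ∧ c j ((P k).Λ (P k).z) = 0 := by simp [T]
  have hwne : ∀ (i : Sbad) j l, wχ i ≠ (P j).Λ l := by
    intro i j l e
    have h2 : Pairlike (((P j).Λ l : G → ℂ) - ((P j).Λ ((P j).star l) : G → ℂ)) (wχ i) := by
      rw [e]; exact hpair j l
    refine pairlike_disjoint (hwp i) h2 ?_
    rcases eq_or_ne (i : Fin r) j with h | h
    · subst h; exact hwo i l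
    · exact hdisj h (hws i) ((P j).lam_supp _ _)
  let A : Finset (Cfsg.IrrCharacter G) :=
    ((insert (Char.trivialIrr G) (fam k)) ∪ T.biUnion fam) ∪ univ.image wχ
  have hbudget : ∑ j ∈ T, ((P j).t : ℤ) + #Sbad ≤ ((P k).e : ℤ) - 1 := by
    have h1 : ∑ χ, c k χ * c k χ = ((P k).e : ℤ) + 1 := by
      have h2 : ((∑ χ, c k χ * c k χ : ℤ) : ℂ) = (((P k).e : ℤ) + 1 : ℤ) := by
        rw [← hparseval, (P k).psi_norm]; push_cast; ring
      exact_mod_cast h2
    have h2 : ∑ χ ∈ A, c k χ * c k χ ≤ ∑ χ, c k χ * c k χ :=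
      Finset.sum_le_sum_of_subset_of_nonneg (Finset.subset_univ _) fun x _ _ => mul_self_nonneg _
    have hsq : ∀ {χ}, c k χ ≠ 0 → 1 ≤ c k χ * c k χ := fun h => mul_self_pos.2 h
    have d1 : Disjoint (insert (Char.trivialIrr G) (fam k) ∪ T.biUnion fam) (univ.image wχ) := by
      rw [Finset.disjoint_left]
      intro χ hχ hχ'
      obtain ⟨i, -, rfl⟩ := Finset.mem_image.1 hχ'
      rcases Finset.mem_union.1 hχ with h | h
      · rcases Finset.mem_insert.1 h with h | h
        · exact (hO.1 (hwO i)).1 h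
        · exact (hO.1 (hwO i)).2 h
      · obtain ⟨j, -, hj⟩ := Finset.mem_biUnion.1 h
        obtain ⟨l, hl⟩ := hfam.1 hj
        exact hwne i j l hl.symm
    have d2 : Disjoint (insert (Char.trivialIrr G) (fam k)) (T.biUnion fam) := by
      rw [Finset.disjoint_left]
      intro χ hχ hχ'
      obtain ⟨j, hj, hj'⟩ := Finset.mem_biUnion.1 hχ'
      obtain ⟨l, rfl⟩ := hfam.1 hj'
      rcases Finset.mem_insert.1 hχ with h | h
      · exact (P j).lam_ne_one l h
      · obtain ⟨l', hl'⟩ := hfam.1 h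
        exact (hT.1 hj).1 (hLdisj l l' hl'.symm)
    have d3 : Set.PairwiseDisjoint (T : Set (Fin r)) fam := by
      intro a _ b _ hab
      change Disjoint (fam a) (fam b)
      rw [Finset.disjoint_left]
      intro χ hχ hχ'
      obtain ⟨l, rfl⟩ := hfam.1 hχ
      obtain ⟨l', hl'⟩ := hfam.1 hχ'
      exact hab (hLdisj l l' hl'.symm)
    rw [Finset.sum_union d1, Finset.sum_union d2, Finset.sum_biUnion d3,
      Finset.sum_insert (fun h => by
        obtain ⟨l, hl⟩ := hfam.1 h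
        exact (P k).lam_ne_one l hl), hctriv] at h2
    have e1 : (1 : ℤ) ≤ ∑ χ ∈ fam k, c k χ * c k χ := by
      obtain ⟨l, hl⟩ : ∃ l, c k ((P k).Λ l) ≠ 0 := by
        by_contra h
        push Not at h
        have h3 := (P k).psi_diff _ ((P k).star_ne (P k).z)
        rw [hc, hc, h, h] at h3
        rcases (P k).eps with he | he <;> simp [he] at h3
      exact (hsq hl).trans (Finset.single_le_sum (f := fun χ => c k χ * c k χ)
        (fun x _ => mul_self_nonneg _) (hfam.2 ⟨l, rfl⟩))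
    have e2 : ∑ j ∈ T, ((P j).t : ℤ) ≤ ∑ j ∈ T, ∑ χ ∈ fam j, c k χ * c k χ := by
      refine Finset.sum_le_sum fun j hj => ?_
      have hcard : #(fam j) = (P j).t := by
        simp [fam, Finset.card_image_of_injective _ (P j).lam_inj]
      rw [← hcard, Finset.card_eq_sum_ones, Nat.cast_sum, Nat.cast_one]
      refine Finset.sum_le_sum fun χ hχ => ?_
      obtain ⟨l, rfl⟩ := hfam.1 hχ
      exact hsq (hedge (hT.1 hj).1 (hT.1 hj).2 l)
    have e3 : (#Sbad : ℤ) ≤ ∑ χ ∈ univ.image wχ, c k χ * c k χ := by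
      have hinj : Function.Injective wχ := by
        intro a b e
        by_contra hab
        exact pairlike_disjoint (hwp a) (e ▸ hwp b)
          (hdisj (fun h => hab (Subtype.ext h)) (hws a) (hws b))
      rw [Finset.sum_image hinj.injOn, ← Fintype.card_coe, ← Finset.card_univ,
        Finset.card_eq_sum_ones, Nat.cast_sum, Nat.cast_one]
      exact Finset.sum_le_sum fun i _ => hsq (hwc i)
    linarith
  -- the norm of the exceptional character
  obtain ⟨d, hd0, hd⟩ := Char.irr_one_pos Λ₀.2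
  have hd2 : 2 ≤ d := by
    by_contra h
    have hd1 : d = 1 := by omega
    subst hd1
    obtain ⟨f, hf⟩ := Char.exists_monoidHom_of_degree_one (Char.isCharacter_of_irr Λ₀.2)
      (by rw [hd, Nat.cast_one])
    haveI := hm.simple
    rcases (inferInstance : f.ker.Normal).eq_bot_or_eq_top with hb | ht
    · exact hm.nsolv (Group.isSolvable_of_comm fun a b =>
        (f.ker_eq_bot_iff.1 hb) (by rw [map_mul, map_mul, mul_comm]))
    · refine (P k).lam_ne_one (P k).z (Subtype.ext (funext fun g => ?_))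
      rw [← hΛ₀, hf g, MonoidHom.mem_ker.1 (ht ▸ Subgroup.mem_top g), Units.val_one]
      rfl
  let F : G → ℝ := fun x => ‖(Λ₀ : G → ℂ) x‖ ^ 2
  have hFcl : ∀ g h : G, 1 - F (h * g * h⁻¹) = 1 - F g := fun g h => by
    simp only [F]
    rw [Char.irr_isClassFunction Λ₀.2 g h]
  have hsum := sum_ne_one hH hcov huniq (fun x => 1 - F x) hFcl
  have hFall : ∑ x : G, F x = Nat.card G := by
    have h1 := classInner_congr_card (φ := (Λ₀ : G → ℂ)) (ψ := (Λ₀ : G → ℂ))
    rw [Char.classInner_irr_self Λ₀.2, mul_one] at h1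
    have h2 := congrArg Complex.re h1
    simp only [Complex.natCast_re, Complex.re_sum, Complex.mul_conj, Complex.ofReal_re,
      Complex.normSq_eq_norm_sq] at h2
    exact h2.symm
  have hF1 : F 1 = (d : ℝ) ^ 2 := by simp [F, hd]
  have hlhs : ∑ x ∈ univ.filter (fun x : G => x ≠ 1), (1 - F x) = (d : ℝ) ^ 2 - 1 := by
    rw [Finset.filter_ne', Finset.sum_erase_eq_sub (Finset.mem_univ _), Finset.sum_sub_distrib,
      hFall, hF1, Finset.sum_const, nsmul_one, Finset.card_univ, ← Nat.card_eq_fintype_card]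
    ring
  have hd2' : (2 : ℝ) ≤ d := by exact_mod_cast hd2
  -- bounds for each part
  let h' : Fin r → ℝ := fun i => (Nat.card (⁅Hs i, Hs i⁆ : Subgroup G) : ℝ)
  let Q : Fin r → ℝ := fun i => ∑ x ∈ univ.filter (fun x : G => x ∈ Hs i ∧ x ≠ 1), (1 - F x)
  let Dv : Fin r → ℝ := fun i => Q i / ((h' i * (P i).hb) * (P i).e)
  have hpos' : ∀ i, 1 ≤ h' i := fun i => Nat.one_le_cast.2 Nat.card_pos
  have hDsum : 0 < ∑ i, Dv i := by
    rw [hlhs] at hsum
    have h1 : (Nat.card G : ℝ) * ∑ i, Dv i = (d : ℝ) ^ 2 - 1 := by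
      rw [hsum, Finset.mul_sum]
      refine Finset.sum_congr rfl fun i _ => ?_
      rw [(P i).card_norm, Nat.cast_mul, (P i).card_H, Nat.cast_mul]
      simp only [Dv, Q, h']
      ring
    have hG : (0 : ℝ) < Nat.card G := Nat.cast_pos.2 Nat.card_pos
    by_contra hneg
    have := mul_nonpos_of_nonneg_of_nonpos hG.le (not_lt.1 hneg)
    nlinarith
  have hsplit : ∀ i, Q i = ((#(hdSet (Hs i)) : ℝ) - ∑ x ∈ hdSet (Hs i), F x) +
      ((#(derSet (Hs i)) : ℝ) - ∑ x ∈ derSet (Hs i), F x) := by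
    intro i
    simp only [Q]
    rw [show univ.filter (fun x : G => x ∈ Hs i ∧ x ≠ 1) = hdSet (Hs i) ∪ derSet (Hs i) by
      ext x
      simp only [Finset.mem_filter, Finset.mem_univ, true_and, Finset.mem_union, mem_hdSet,
        mem_derSet]
      constructor
      · rintro ⟨h, h1⟩
        by_cases hx : x ∈ ⁅Hs i, Hs i⁆
        exacts [Or.inr ⟨hx, h1⟩, Or.inl ⟨h, hx⟩]
      · rintro (⟨h, hx⟩ | ⟨hx, h1⟩)
        exacts [⟨h, fun e => hx (e ▸ Subgroup.one_mem _)⟩,
          ⟨Subgroup.commutator_le_self _ hx, h1⟩],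
      Finset.sum_union (by
        rw [Finset.disjoint_left]
        intro x hx hx'
        exact (mem_hdSet.1 hx).2 (mem_derSet.1 hx').1),
      Finset.sum_sub_distrib, Finset.sum_sub_distrib, Finset.sum_const, Finset.sum_const,
      nsmul_one, nsmul_one]
  have hnd : ∀ i, (#(derSet (Hs i)) : ℝ) = h' i - 1 := by
    intro i
    simp only [h']
    rw [show derSet (Hs i) = (univ.filter fun x => x ∈ ⁅Hs i, Hs i⁆).erase 1 by
      ext x; simp [mem_derSet, and_comm], Finset.card_erase_of_mem (by simp),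
      Nat.card_eq_fintype_card, Fintype.card_of_subtype (univ.filter fun x => x ∈ ⁅Hs i, Hs i⁆)
        (fun x => by simp), Nat.cast_sub (Finset.card_pos.2 ⟨1, by simp⟩), Nat.cast_one]
  have hnh : ∀ i, (#(hdSet (Hs i)) : ℝ) = h' i * (P i).hb - h' i := by
    intro i
    simp only [h']
    rw [← Nat.cast_mul, ← (P i).card_H]
    rw [show hdSet (Hs i) = (univ.filter fun x => x ∈ Hs i) \
        (univ.filter fun x => x ∈ ⁅Hs i, Hs i⁆) by ext x; simp [mem_hdSet],
      Finset.card_sdiff_of_subset (fun x => by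
        simp only [Finset.mem_filter, Finset.mem_univ, true_and]
        exact fun h => Subgroup.commutator_le_self _ h),
      Nat.cast_sub (Finset.card_le_card (fun x => by
        simp only [Finset.mem_filter, Finset.mem_univ, true_and]
        exact fun h => Subgroup.commutator_le_self _ h)),
      Nat.card_eq_fintype_card, Fintype.card_of_subtype (univ.filter fun x => x ∈ Hs i)
        (fun x => by simp), Nat.card_eq_fintype_card,
      Fintype.card_of_subtype (univ.filter fun x => x ∈ ⁅Hs i, Hs i⁆) (fun x => by simp)]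
  have hgal : ∀ i, i ∉ Sbad → h' i - 1 ≤ ∑ x ∈ derSet (Hs i), F x := fun i hi =>
    hnd i ▸ galois_sum (Char.isCharacter_of_irr Λ₀.2) (Hs i) (hnv i hi)
  have hFnn : ∀ x, 0 ≤ F x := fun x => sq_nonneg _
  have hout : ∀ i, i ≠ k → i ∉ T → h' i * (P i).hb - h' i ≤ ∑ x ∈ hdSet (Hs i), F x := by
    intro i hik hiT
    have hb : c i Λ₀ ≠ 0 := fun h => hiT (hT.2 ⟨hik, h⟩)
    have h1 := (P i).hd_sum _ (Char.irr_isClassFunction Λ₀.2)
    have hz : ∀ l, Cfsg.classInner (Λ₀ : G → ℂ) ((P i).Λ l : G → ℂ) = 0 := fun l =>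
      Char.classInner_irr_ne Λ₀.2 ((P i).Λ l).2 (fun e => hik (hLdisj l _ (Subtype.ext e).symm))
    simp only [hc', hz, sub_zero, mul_zero, add_zero, Finset.sum_const, Finset.card_univ,
      Fintype.card_fin, nsmul_eq_mul] at h1
    have h2 : ‖∑ x ∈ hdSet (Hs i), (Λ₀ : G → ℂ) x‖ ≤ ∑ x ∈ hdSet (Hs i), ‖(Λ₀ : G → ℂ) x‖ :=
      norm_sum_le _ _
    have h3 := sq_sum_le_card_mul_sum_sq (s := hdSet (Hs i)) (f := fun x => ‖(Λ₀ : G → ℂ) x‖)
    rw [h1, hnh i] at *
    simp only [norm_mul, Complex.norm_natCast, Complex.norm_intCast] at h2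
    have hb1 : (1 : ℝ) ≤ |(c i Λ₀ : ℝ)| := by
      rw [← Int.cast_abs]; exact_mod_cast Int.one_le_abs hb
    have hhb : ((P i).t : ℝ) * (P i).e + 1 = (P i).hb := by exact_mod_cast (P i).hb_eq
    set s := ∑ x ∈ hdSet (Hs i), ‖(Λ₀ : G → ℂ) x‖ with hs
    have hmpos : 0 < ((P i).t : ℝ) * (P i).e := by
      have h4 : 0 < (P i).t := (P i).z.pos
      have h5 := (P i).e_pos
      positivity
    have hm : h' i * (P i).hb - h' i = ((P i).e : ℝ) * h' i * (P i).t := by
      rw [← hhb]; ring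
    have hle : h' i * (P i).hb - h' i ≤ s := by
      refine le_trans ?_ h2
      rw [hm]
      nlinarith [hpos' i, mul_nonneg (mul_nonneg (Nat.cast_nonneg' (α := ℝ) (P i).e)
        (zero_le_one.trans (hpos' i))) (Nat.cast_nonneg' (α := ℝ) (P i).t)]
    have hm0 : 0 < h' i * (P i).hb - h' i := by
      rw [hm]; nlinarith [hpos' i]
    have h6 : s ^ 2 ≤ (h' i * (P i).hb - h' i) * ∑ x ∈ hdSet (Hs i), F x := h3
    by_contra hlt
    push Not at hlt
    have h7 : (h' i * (P i).hb - h' i) ^ 2 ≤ s ^ 2 := pow_le_pow_left₀ hm0.le hle 2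
    nlinarith [mul_lt_mul_of_pos_left hlt hm0]
  -- final inequality
  set e₀ : ℝ := ((P k).e : ℝ) with he₀
  have he1 : 1 ≤ e₀ := Nat.one_le_cast.2 (P k).e_pos
  have ht2 : ∀ i, (2 : ℝ) ≤ (P i).t := by
    intro i
    have h1 := (P i).star_ne (P i).z
    have h2 : (P i).t ≠ 1 := fun h => h1 (Fintype.card_le_one_iff.1 (by
      rw [Fintype.card_fin, h]) _ _)
    have h3 := (P i).z.pos
    exact_mod_cast (show 2 ≤ (P i).t by omega)
  have hHB : ∀ i, 2 * e₀ + 1 ≤ (P i).hb := by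
    intro i
    have h1 : ((P i).t : ℝ) * (P i).e + 1 = (P i).hb := by exact_mod_cast (P i).hb_eq
    have h2 : e₀ ≤ (P i).e := Nat.cast_le.2 (hk i)
    nlinarith [ht2 i]
  have hs : ∀ i, (h' i - 1) / ((h' i * (P i).hb) * (P i).e) ≤ 1 / (2 * e₀ + 1) := by
    intro i
    have h1 : (1 : ℝ) ≤ (P i).e := Nat.one_le_cast.2 (P i).e_pos
    have h2 := hHB i
    have h3 := hpos' i
    rw [div_le_div_iff₀ (mul_pos (mul_pos (by linarith) (by linarith)) (by linarith)) (by linarith)]
    nlinarith [mul_nonneg (mul_nonneg (zero_le_one.trans h3)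
      (show (0 : ℝ) ≤ (P i).hb by positivity)) (sub_nonneg.2 h1),
      mul_nonneg (sub_nonneg.2 h3) (sub_nonneg.2 h2)]
  let bnd : Fin r → ℝ := fun i =>
    (if i = k then ((P k).t + e₀) / (P k).hb - 1 else 0) +
      (if i ∈ T then (P i).t / (2 * e₀ + 1) else 0) + (if i ∈ Sbad then 1 / (2 * e₀ + 1) else 0)
  have hbnd : ∀ i, Dv i ≤ bnd i := by
    intro i
    have h1 : (1 : ℝ) ≤ (P i).e := Nat.one_le_cast.2 (P i).e_pos
    have h2 := hHB i
    have h3 := hpos' i
    have hden : 0 < (h' i * (P i).hb) * (P i).e := by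
      have : (0 : ℝ) < (P i).hb := by linarith
      positivity
    have hder : ((#(derSet (Hs i)) : ℝ) - ∑ x ∈ derSet (Hs i), F x) / ((h' i * (P i).hb) * (P i).e) ≤
        if i ∈ Sbad then 1 / (2 * e₀ + 1) else 0 := by
      split_ifs with hS
      · refine le_trans ?_ (hs i)
        rw [hnd i]
        exact div_le_div_of_nonneg_right (sub_le_self _ (Finset.sum_nonneg fun x _ => hFnn x)) hden.le
      · rw [hnd i]
        exact div_nonpos_of_nonpos_of_nonneg (by linarith [hgal i hS]) hden.le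
    have hhd : ((#(hdSet (Hs i)) : ℝ) - ∑ x ∈ hdSet (Hs i), F x) / ((h' i * (P i).hb) * (P i).e) ≤
        (if i = k then ((P k).t + e₀) / (P k).hb - 1 else 0) +
          (if i ∈ T then (P i).t / (2 * e₀ + 1) else 0) := by
      rw [hnh i]
      have hhb : ((P i).t : ℝ) * (P i).e + 1 = (P i).hb := by exact_mod_cast (P i).hb_eq
      have hb0 : (0 : ℝ) < (P i).hb := by linarith
      by_cases hik : i = k
      · subst hik
        rw [if_pos rfl, if_neg (fun h => (hT.1 h).1 rfl), add_zero]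
        have hsb : h' i * ((P i).hb * e₀ - e₀ ^ 2) ≤ ∑ x ∈ hdSet (Hs i), F x := (P i).self_bound
        rw [div_le_iff₀ hden]
        have key : (((P i).t + e₀) / (P i).hb - 1) * ((h' i * (P i).hb) * (P i).e) =
            h' i * e₀ * (((P i).t : ℝ) + e₀ - (P i).hb) := by
          rw [← he₀]; field_simp
        rw [key]
        have : h' i * (P i).hb - h' i = h' i * e₀ * (P i).t := by rw [← hhb, he₀]; ring
        nlinarith
      · rw [if_neg hik, zero_add]
        by_cases hiT : i ∈ T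
        · rw [if_pos hiT]
          have hnn := Finset.sum_nonneg (fun x (_ : x ∈ hdSet (Hs i)) => hFnn x)
          refine le_trans (div_le_div_of_nonneg_right (sub_le_self _ hnn) hden.le) ?_
          rw [div_le_div_iff₀ hden (by linarith)]
          have : h' i * (P i).hb - h' i = h' i * (P i).e * (P i).t := by rw [← hhb]; ring
          rw [this]
          nlinarith [mul_le_mul_of_nonneg_left h2 (show (0 : ℝ) ≤ h' i * (P i).e * (P i).t by positivity)]
        · rw [if_neg hiT]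
          exact div_nonpos_of_nonpos_of_nonneg (by linarith [hout i hik hiT]) hden.le
    simp only [Dv, bnd]
    rw [hsplit i, add_div]
    exact add_le_add hhd hder
  have hfin : ∑ i, bnd i ≤ 0 := by
    simp only [bnd, Finset.sum_add_distrib, Finset.sum_ite_eq', Finset.mem_univ, if_true,
      Finset.sum_ite_mem, Finset.univ_inter, Finset.sum_const, nsmul_eq_mul]
    rw [← Finset.sum_div]
    have hb' : (∑ j ∈ T, ((P j).t : ℝ)) + #Sbad ≤ e₀ - 1 := by
      have := (Int.cast_le (R := ℝ)).2 hbudget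
      push_cast at this
      exact this
    have hhb : ((P k).t : ℝ) * e₀ + 1 = (P k).hb := by rw [he₀]; exact_mod_cast (P k).hb_eq
    have hkey : (((P k).t : ℝ) + e₀) / (P k).hb ≤ (2 + e₀) / (2 * e₀ + 1) := by
      rw [← hhb, div_le_div_iff₀ (by positivity) (by linarith)]
      nlinarith [mul_nonneg (sub_nonneg.2 (ht2 k)) (show (0 : ℝ) ≤ e₀ * e₀ - 1 by nlinarith)]
    have hsum2 : (∑ j ∈ T, ((P j).t : ℝ)) / (2 * e₀ + 1) + (#Sbad : ℝ) * (1 / (2 * e₀ + 1)) ≤
        (e₀ - 1) / (2 * e₀ + 1) := by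
      rw [← mul_div_assoc, mul_one, ← add_div]
      exact div_le_div_of_nonneg_right hb' (by linarith)
    have hone : (2 + e₀) / (2 * e₀ + 1) + (e₀ - 1) / (2 * e₀ + 1) = 1 := by
      rw [← add_div, div_eq_one_iff_eq (by linarith)]
      ring
    linarith
  linarith [Finset.sum_le_sum (fun i (_ : i ∈ Finset.univ) => hbnd i)]

end Cfsg.Agent.CharInd.CN
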