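import Cfsg.Agent.CharInd.Clifford
import Cfsg.Agent.CharInd.BrauerPerm
import Cfsg.Agent.CharInd.GenChar
import Cfsg.Agent.Char.Linear
import Cfsg.Agent.Char.Real

/-!
# Characters of a group with a fixed-point-free normal subgroup
-/

noncomputable section

namespace Cfsg.Agent.CharInd.CN

open scoped ComplexConjugate BigOperators
open Finset

universe u

variable {M : Type u} [Group M] [Fintype M] (N : Subgroup M) [hN : N.Normal] [Fintype N]
  (hfpf : ∀ m : M, m ∉ N → ∀ x ∈ N, m * x = x * m → x = 1)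

include hfpf

/-- Nontrivial irreducible characters of `N` have inertia group `N`. -/
theorem conjChar_eq_self_iff {θ : N → ℂ} (hθ : Cfsg.IsIrrCharacter N θ)
    (h1 : θ ≠ fun _ => 1) (x : M) : conjChar N x θ = θ ↔ x ∈ N := by
  classical
  constructor
  · intro hfix
    by_contra hx
    apply h1
    let α : N ≃* N := (MulAut.conjNormal x : MulAut N)
    have hfixed : ∀ C : ConjClasses N, ConjClasses.map α.toMonoidHom C = C →
        C = ConjClasses.mk 1 := by
      intro C hC
      obtain ⟨g, rfl⟩ := ConjClasses.exists_rep C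
      change ConjClasses.mk (α g) = ConjClasses.mk g at hC
      obtain ⟨k, hk⟩ := isConj_iff.1 (ConjClasses.mk_eq_mk_iff_isConj.1 hC)
      have hk' : (k : M) * (x * g * x⁻¹) * (k : M)⁻¹ = g := congrArg Subtype.val hk
      have hnot : (k : M) * x ∉ N := fun h => hx (by
        simpa using N.mul_mem (N.inv_mem k.2) h)
      have hc : (k : M) * x * g = g * ((k : M) * x) := by
        conv_rhs => rw [← hk']
        group
      congr 1
      exact Subtype.ext (hfpf _ hnot g g.2 hc)
    have hcard := brauer_perm α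
    have hle : Nat.card {C : ConjClasses N // ConjClasses.map α.toMonoidHom C = C} ≤ 1 :=
      Finite.card_le_one_iff_subsingleton.2
        ⟨fun a b => Subtype.ext ((hfixed a.1 a.2).trans (hfixed b.1 b.2).symm)⟩
    rw [hcard, Finite.card_le_one_iff_subsingleton] at hle
    have h2 : θ ∘ α = θ := by
      conv_rhs => rw [← hfix, conjChar_eq_comp]
      rfl
    have := @Subsingleton.elim _ hle ⟨⟨θ, hθ⟩, h2⟩
      ⟨⟨fun _ => 1, Cfsg.Agent.Char.isIrrCharacter_const_one⟩, rfl⟩
    exact congrArg (fun t => (t.1 : Cfsg.IrrCharacter N).1) this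
  · intro hx
    exact conjChar_isClassFunction_mem N (Cfsg.Agent.Char.irr_isClassFunction hθ) ⟨x, hx⟩

omit hfpf in
theorem card_mul_inner_irr {θ φ : N → ℂ} (hθ : Cfsg.IsIrrCharacter N θ)
    (hφ : Cfsg.IsIrrCharacter N φ) [DecidablePred fun x : M => θ = conjChar N x φ] :
    (Nat.card N : ℂ) * Cfsg.classInner (Cfsg.indFun N θ) (Cfsg.indFun N φ) =
      (#{x : M | θ = conjChar N x φ} : ℕ) := by
  classical
  rw [card_mul_classInner_indFun_normal]
  simp only [fun x => Cfsg.Agent.Char.classInner_irr hθ (conjChar_irr N x hφ)]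
  rw [Finset.sum_boole]

/-- Induction of a nontrivial irreducible character is irreducible. -/
theorem irr_indFun_fpf {θ : N → ℂ} (hθ : Cfsg.IsIrrCharacter N θ)
    (h1 : θ ≠ fun _ => 1) : Cfsg.IsIrrCharacter M (Cfsg.indFun N θ) := by
  classical
  refine Cfsg.Agent.Char.isIrrCharacter_iff_classInner.2
    ⟨isCharacter_indFun N (Cfsg.Agent.Char.isCharacter_of_irr hθ), ?_⟩
  have h := card_mul_inner_irr N hθ hθ
  have hcard : #{x : M | θ = conjChar N x θ} = Nat.card N := by
    rw [Nat.card_eq_fintype_card, Fintype.card_of_subtype _ (fun x => ?_)]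
    simp [eq_comm (a := θ), conjChar_eq_self_iff N hfpf hθ h1]
  rw [hcard] at h
  exact mul_left_cancel₀ natCard_ne_zero (h.trans (mul_one _).symm)

/-- Characters inducing to the same character are conjugate. -/
theorem exists_conj_of_indFun_eq {θ φ : N → ℂ} (hθ : Cfsg.IsIrrCharacter N θ)
    (hφ : Cfsg.IsIrrCharacter N φ) (h1 : θ ≠ fun _ => 1)
    (e : Cfsg.indFun N θ = Cfsg.indFun N φ) : ∃ x : M, θ = conjChar N x φ := by
  classical
  have h := card_mul_inner_irr N hθ hφ
  rw [← e, Cfsg.Agent.Char.classInner_irr_self (irr_indFun_fpf N hfpf hθ h1), mul_one] at h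
  have h0 : 0 < #{x : M | θ = conjChar N x φ} := by
    have : Nat.card N = #{x : M | θ = conjChar N x φ} := by exact_mod_cast h
    rw [← this]; exact Nat.card_pos
  obtain ⟨x, hx⟩ := Finset.card_pos.1 h0
  exact ⟨x, (Finset.mem_filter.1 hx).2⟩

omit hfpf [Fintype N] in
/-- Conjugate functions induce to the same function. -/
theorem indFun_conjChar (x : M) (θ : N → ℂ) :
    Cfsg.indFun N (conjChar N x θ) = Cfsg.indFun N θ := by
  funext g
  by_cases hg : g ∈ N
  · rw [show g = ((⟨g, hg⟩ : N) : M) from rfl, indFun_normal_mem, indFun_normal_mem]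
    congr 1
    refine Fintype.sum_equiv (Equiv.mulLeft x) _ _ fun y => ?_
    simp only [conjChar_apply, Equiv.coe_mulLeft]
    congr 1
    apply Subtype.ext
    simp [mul_assoc]
  · rw [indFun_normal_notMem N _ hg, indFun_normal_notMem N _ hg]

omit hfpf in
/-- Induced characters of nontrivial characters are orthogonal to the trivial one. -/
theorem inner_indFun_one {θ : N → ℂ} (hθ : Cfsg.IsIrrCharacter N θ) (h1 : θ ≠ fun _ => 1) :
    Cfsg.classInner (Cfsg.indFun N θ) (fun _ => 1) = 0 := by
  rw [classInner_indFun_left N θ (fun _ _ => rfl)]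
  exact Cfsg.Agent.Char.classInner_irr_ne hθ Cfsg.Agent.Char.isIrrCharacter_const_one h1

/-- A nontrivial induced character is not real, in odd order. -/
theorem indFun_conj_ne (hodd : Odd (Nat.card M)) {θ : N → ℂ} (hθ : Cfsg.IsIrrCharacter N θ)
    (h1 : θ ≠ fun _ => 1) :
    Cfsg.indFun N (fun x => conj (θ x)) ≠ Cfsg.indFun N θ := by
  intro e
  rw [← indFun_conj] at e
  have hirr := irr_indFun_fpf N hfpf hθ h1
  have h := Cfsg.Agent.Char.real_irr_eq_trivial hodd ⟨_, hirr⟩
    (fun g => Complex.conj_eq_iff_im.1 (congrFun e g))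
  have h2 : Cfsg.indFun N θ = fun _ => 1 := congrArg Subtype.val h
  have h3 := inner_indFun_one N hθ h1
  rw [h2, Cfsg.Agent.Char.classInner_irr_self Cfsg.Agent.Char.isIrrCharacter_const_one] at h3
  exact one_ne_zero h3

omit hfpf in
theorem linHom_ne_one {f : N →* ℂˣ} (hf : f ≠ 1) :
    (fun x => (f x : ℂ)) ≠ fun _ => 1 := fun h =>
  hf (Cfsg.Agent.Char.monoidHom_coe_injective (by simpa using h))

omit hfpf in
/-- Second orthogonality for linear characters. -/
theorem sum_linHom [Fintype (N →* ℂˣ)] (x : N) [Decidable (x ∈ commutator N)] :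
    ∑ f : N →* ℂˣ, (f x : ℂ) = if x ∈ commutator N then ((commutator N).index : ℂ) else 0 := by
  split_ifs with hx
  · rw [Finset.sum_congr rfl (fun f _ => ?_), Finset.sum_const, Finset.card_univ,
      ← Nat.card_eq_fintype_card, Cfsg.Agent.Char.card_monoidHom_complex, nsmul_one]
    rw [MonoidHom.mem_ker.1 (Abelianization.commutator_subset_ker f hx), Units.val_one]
  · have hx' : Abelianization.of x ≠ 1 := fun h => hx (by
      rw [← Abelianization.ker_of]; exact h)
    obtain ⟨⟨χ, hχ⟩, hne⟩ := Cfsg.Agent.Char.exists_irr_ne_degree hx'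
    change χ _ ≠ χ 1 at hne
    obtain ⟨f0, hf0⟩ := Cfsg.Agent.Char.irr_exists_monoidHom_of_comm
      (fun a b : Abelianization N => mul_comm a b) hχ
    set f1 : N →* ℂˣ := f0.comp Abelianization.of with hf1
    have hne1 : (f1 x : ℂ) ≠ 1 := by
      rw [hf1, MonoidHom.comp_apply, ← hf0]
      intro h
      apply hne
      rw [h, hf0 1, map_one, Units.val_one]
    have hs : ∑ f : N →* ℂˣ, ((f1 * f) x : ℂ) = ∑ f : N →* ℂˣ, (f x : ℂ) :=
      Fintype.sum_bijective (f1 * ·) (Group.mulLeft_bijective f1) _ _ (fun f => rfl)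
    simp only [MonoidHom.mul_apply, Units.val_mul, ← Finset.mul_sum] at hs
    have h0 : ((f1 x : ℂ) - 1) * ∑ f : N →* ℂˣ, (f x : ℂ) = 0 := by
      rw [sub_mul, one_mul, hs, sub_self]
    exact (mul_eq_zero.1 h0).resolve_left (sub_ne_zero.2 hne1)

/-- The family of induced nontrivial linear characters. -/
theorem exists_linear_family [Nontrivial (Abelianization N)] [DecidablePred (· ∈ commutator N)] :
    ∃ S : Finset (M → ℂ), S.Nonempty ∧
      (∀ ζ ∈ S, ∃ f : N →* ℂˣ, f ≠ 1 ∧ ζ = Cfsg.indFun N (fun x => (f x : ℂ))) ∧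
      (∀ ζ ∈ S, (fun g => conj (ζ g)) ∈ S) ∧
      ∀ x : N, ∑ ζ ∈ S, ζ (x : M) =
        (if x ∈ commutator N then ((commutator N).index : ℂ) else 0) - 1 := by
  classical
  haveI : Finite (N →* ℂˣ) := Cfsg.Agent.Char.monoidHom_complex_finite
  letI := Fintype.ofFinite (N →* ℂˣ)
  let Z : (N →* ℂˣ) → (M → ℂ) := fun f => Cfsg.indFun N (fun x => (f x : ℂ))
  let L : Finset (N →* ℂˣ) := Finset.univ.erase 1
  have hL : ∀ {f}, f ∈ L ↔ f ≠ 1 := fun {f} => by simp [L]
  let c : M → (N →* ℂˣ) → (N →* ℂˣ) := fun x f => f.comp (MulAut.conjNormal x : MulAut N).toMonoidHom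
  have hc : ∀ x f, (fun n => ((c x f) n : ℂ)) = conjChar N x (fun n => (f n : ℂ)) := fun x f => by
    rw [conjChar_eq_comp]; rfl
  refine ⟨L.image Z, ?_, ?_, ?_, ?_⟩
  · obtain ⟨a, ha⟩ := exists_ne (1 : Abelianization N)
    obtain ⟨⟨χ, hχ⟩, hne⟩ := Cfsg.Agent.Char.exists_irr_ne_degree ha
    change χ _ ≠ χ 1 at hne
    obtain ⟨f0, hf0⟩ := Cfsg.Agent.Char.irr_exists_monoidHom_of_comm
      (fun a b : Abelianization N => mul_comm a b) hχ
    refine ⟨Z (f0.comp Abelianization.of), Finset.mem_image_of_mem _ (hL.2 fun h => hne ?_)⟩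
    obtain ⟨x, rfl⟩ := QuotientGroup.mk_surjective a
    have h2 := DFunLike.congr_fun h x
    refine (hf0 _).trans (Eq.trans ?_ (hf0 1).symm)
    rw [map_one]
    exact congrArg Units.val h2
  · intro ζ hζ
    obtain ⟨f, hf, rfl⟩ := Finset.mem_image.1 hζ
    exact ⟨f, hL.1 hf, rfl⟩
  · intro ζ hζ
    obtain ⟨f, hf, rfl⟩ := Finset.mem_image.1 hζ
    refine Finset.mem_image.2 ⟨f⁻¹, hL.2 fun h => hL.1 hf ?_, ?_⟩
    · ext n
      have h2 := DFunLike.congr_fun h n
      rw [MonoidHom.inv_apply, MonoidHom.one_apply, inv_eq_one] at h2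
      rw [h2]; rfl
    simp only [Z]
    rw [indFun_conj]
    congr 1
    funext n
    have h1 : ‖(f n : ℂ)‖ = 1 := Complex.norm_eq_one_of_pow_eq_one (n := orderOf n)
      (by rw [← Units.val_pow_eq_pow_val, ← map_pow, pow_orderOf_eq_one, map_one, Units.val_one])
      (orderOf_pos n).ne'
    rw [MonoidHom.inv_apply, Units.val_inv_eq_inv_val, Complex.inv_eq_conj h1]
  · intro x
    set e := Nat.card (M ⧸ N) with he
    -- each fibre has `e` elements
    have hfib : ∀ ζ ∈ L.image Z, #(L.filter fun f => Z f = ζ) = e := by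
      intro ζ hζ
      obtain ⟨f0, hf0, rfl⟩ := Finset.mem_image.1 hζ
      have hirr := fun f : N →* ℂˣ => Cfsg.Agent.Char.isIrrCharacter_monoidHom f
      have hstab : ∀ y : M, c y f0 = f0 ↔ y ∈ N := fun y => by
        rw [← conjChar_eq_self_iff N hfpf (hirr f0) (linHom_ne_one N (hL.1 hf0)) y, ← hc]
        exact ⟨fun h => by rw [h], fun h => Cfsg.Agent.Char.monoidHom_coe_injective h⟩
      have hmul : ∀ y z : M, c (y * z) f0 = c z (c y f0) := fun y z => by
        apply Cfsg.Agent.Char.monoidHom_coe_injective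
        simp only [hc, conjChar_mul]
      rw [he, Nat.card_eq_fintype_card, ← Finset.card_univ]
      refine (Finset.card_bij (fun q _ => c q.out f0) ?_ ?_ ?_).symm
      · intro q _
        refine Finset.mem_filter.2 ⟨hL.2 fun h => hL.1 hf0 ?_, ?_⟩
        · have := congrArg (c q.out⁻¹) h
          rw [← hmul, mul_inv_cancel, (hstab 1).2 N.one_mem] at this
          rw [this]
          ext n
          rfl
        · simp only [Z]
          rw [hc, indFun_conjChar]
      · intro q _ q' _ h
        have := congrArg (c q'.out⁻¹) h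
        rw [← hmul, ← hmul, mul_inv_cancel, (hstab 1).2 N.one_mem, hstab] at this
        rw [← QuotientGroup.out_eq' q, ← QuotientGroup.out_eq' q']
        have h3 := N.inv_mem this
        rw [mul_inv_rev, inv_inv] at h3
        exact QuotientGroup.eq.2 (hN.mem_comm h3)
      · intro f hf
        obtain ⟨hfL, hfZ⟩ := Finset.mem_filter.1 hf
        obtain ⟨y, hy⟩ := exists_conj_of_indFun_eq N hfpf (hirr f) (hirr f0)
          (linHom_ne_one N (hL.1 hfL)) hfZ
        refine ⟨(y : M ⧸ N), Finset.mem_univ _, ?_⟩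
        obtain ⟨n, hn⟩ := QuotientGroup.mk_out_eq_mul N y
        have hyn : y * (n : M) = y * n * y⁻¹ * y := by group
        rw [hn, hyn, hmul, (hstab _).2 (hN.conj_mem n n.2 y)]
        exact Cfsg.Agent.Char.monoidHom_coe_injective ((hc y f0).trans hy.symm)
    have hsum : ∑ f ∈ L, Z f = (e : ℂ) • ∑ ζ ∈ L.image Z, ζ := by
      rw [← Finset.sum_fiberwise_of_maps_to (fun f hf => Finset.mem_image_of_mem Z hf), Finset.smul_sum]
      refine Finset.sum_congr rfl fun ζ hζ => ?_
      rw [Finset.sum_congr rfl (fun f hf => (Finset.mem_filter.1 hf).2), Finset.sum_const,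
        hfib ζ hζ]
      exact (Nat.cast_smul_eq_nsmul ℂ e ζ).symm
    let F : N → ℂ := fun n => (if n ∈ commutator N then ((commutator N).index : ℂ) else 0) - 1
    have hF : ∑ f ∈ L, (fun n : N => (f n : ℂ)) = F := by
      funext n
      rw [Finset.sum_apply, Finset.sum_erase_eq_sub (Finset.mem_univ _), sum_linHom]
      simp [F]
    have hval : Cfsg.indFun N F (x : M) = (e : ℂ) * F x := by
      rw [indFun_normal_mem]
      have hinv : ∀ y : M, F ⟨y * x * y⁻¹, hN.conj_mem x x.2 y⟩ = F x := by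
        intro y
        simp only [F]
        congr 1
        have hmap := Subgroup.Characteristic.fixed (H := commutator N) inferInstance
          (MulAut.conjNormal y : MulAut N)
        have : (⟨y * x * y⁻¹, hN.conj_mem x x.2 y⟩ : N) ∈ commutator N ↔ x ∈ commutator N := by
          conv_rhs => rw [← hmap]
          exact Iff.rfl
        simp only [this]
      simp only [hinv, Finset.sum_const, Finset.card_univ, nsmul_eq_mul]
      rw [← Nat.card_eq_fintype_card, ← N.card_mul_index, Nat.cast_mul, mul_assoc,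
        inv_mul_cancel_left₀ natCard_ne_zero]
      rfl
    have h1 := congrFun hsum (x : M)
    rw [← indFun_sum, hF, hval, Pi.smul_apply, smul_eq_mul, Finset.sum_apply] at h1
    exact (mul_left_cancel₀ (Nat.cast_ne_zero.2 Nat.card_pos.ne') h1).symm

end Cfsg.Agent.CharInd.CN
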