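import Cfsg.Agent.CharInd.CN.Base

/-!
# Subgroups with a unique maximal p-subgroup
-/

namespace Cfsg.Agent.CharInd.CN

open Subgroup

universe u v

variable {G : Type u} [Group G]

/-- Any two `p`-subgroups of `X` generate a `p`-group. -/
def Good (p : ℕ) (X : Subgroup G) : Prop :=
  ∀ A B : Subgroup G, A ≤ X → B ≤ X → IsPGroup p A → IsPGroup p B →
    IsPGroup p (A ⊔ B : Subgroup G)

/-- A maximal `p`-subgroup of `X`. -/
def IsPMax (p : ℕ) (X S : Subgroup G) : Prop :=
  S ≤ X ∧ IsPGroup p S ∧ ∀ A : Subgroup G, A ≤ X → IsPGroup p A → S ≤ A → A = S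

theorem good_mono {p : ℕ} {X Y : Subgroup G} (h : Good p Y) (hXY : X ≤ Y) : Good p X :=
  fun A B hA hB => h A B (hA.trans hXY) (hB.trans hXY)

theorem good_of_isPGroup {p : ℕ} {X : Subgroup G} (h : IsPGroup p X) : Good p X :=
  fun _ _ hA hB _ _ => h.to_le (sup_le hA hB)

theorem exists_isPMax [Finite G] {p : ℕ} {X A : Subgroup G} (hA : A ≤ X) (hp : IsPGroup p A) :
    ∃ S, A ≤ S ∧ IsPMax p X S := by
  obtain ⟨S, ⟨hAS, hSX, hSp⟩, hmax⟩ :=
    Set.Finite.exists_maximalFor (fun S : Subgroup G => S)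
      {S : Subgroup G | A ≤ S ∧ S ≤ X ∧ IsPGroup p S} (Set.toFinite _) ⟨A, le_rfl, hA, hp⟩
  exact ⟨S, hAS, hSX, hSp, fun B hB hBp hSB =>
    le_antisymm (hmax ⟨hAS.trans hSB, hB, hBp⟩ hSB) hSB⟩

theorem exists_isPMax' [Finite G] (p : ℕ) (X : Subgroup G) : ∃ S, IsPMax p X S := by
  obtain ⟨S, -, hS⟩ := exists_isPMax (p := p) (A := ⊥) (bot_le (a := X)) (IsPGroup.of_bot)
  exact ⟨S, hS⟩

theorem le_of_good {p : ℕ} {X S A : Subgroup G} (h : Good p X) (hS : IsPMax p X S) (hA : A ≤ X)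
    (hp : IsPGroup p A) : A ≤ S := by
  rw [← hS.2.2 (S ⊔ A) (sup_le hS.1 hA) (h S A hS.1 hA hS.2.1 hp) le_sup_left]
  exact le_sup_right

theorem normalizes_of_good [Finite G] {p : ℕ} {X S : Subgroup G} (h : Good p X)
    (hS : IsPMax p X S) : X ≤ normalizer (S : Set G) := by
  intro x hx
  have key : ∀ y ∈ X, ∀ a ∈ S, y * a * y⁻¹ ∈ S := by
    intro y hy a ha
    have hle : S.map (MulAut.conj y).toMonoidHom ≤ S :=
      le_of_good h hS (by
        rintro _ ⟨b, hb, rfl⟩
        exact X.mul_mem (X.mul_mem hy (hS.1 hb)) (X.inv_mem hy)) (hS.2.1.map _)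
    exact hle ⟨a, ha, rfl⟩
  rw [mem_normalizer_iff]
  exact fun a => ⟨key x hx a, fun ha => by
    simpa [mul_assoc] using key x⁻¹ (X.inv_mem hx) _ ha⟩

theorem sup_isPGroup {p : ℕ} {A B : Subgroup G} (hA : IsPGroup p A) (hB : IsPGroup p B)
    (hAB : A ≤ normalizer (B : Set G)) : IsPGroup p (A ⊔ B : Subgroup G) :=
  hA.to_sup_of_normal_right' hB hAB

/-- `p`-subgroups of a nilpotent subgroup generate a `p`-group. -/
theorem good_of_nilpotent [Finite G] {p : ℕ} [hp : Fact p.Prime] {X : Subgroup G}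
    (hX : Group.IsNilpotent X) : Good p X := by
  intro A B hA hB hAp hBp
  obtain ⟨P⟩ : Nonempty (Sylow p X) := inferInstance
  haveI hPn : (P : Subgroup X).Normal := inferInstance
  have hle : ∀ C : Subgroup G, C ≤ X → IsPGroup p C → C ≤ (P : Subgroup X).map X.subtype := by
    intro C hC hCp
    obtain ⟨Q, hQ⟩ := IsPGroup.exists_le_sylow
      (hCp.comap_of_injective X.subtype X.subtype_injective : IsPGroup p (C.subgroupOf X))
    letI := Sylow.unique_of_normal P hPn
    rw [Subsingleton.elim Q P] at hQ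
    intro c hc
    exact ⟨⟨c, hC hc⟩, hQ hc, rfl⟩
  exact (P.2.map X.subtype).to_le (sup_le (hle A hA hAp) (hle B hB hBp))

/-- A group normalising a nontrivial `p`-group and a nontrivial `p'`-group inside it is good. -/
theorem good_of_two_cores [Finite G] (hCN : Cfsg.IsCNGroup G) {p : ℕ} [hp : Fact p.Prime]
    {X R S : Subgroup G} (hR : R ≤ X) (hRp : IsPGroup p R) (hR1 : R ≠ ⊥)
    (hRX : X ≤ normalizer (R : Set G)) (hS : S ≤ X) (hS1 : S ≠ ⊥)
    (hSX : X ≤ normalizer (S : Set G)) (hScop : (Nat.card S).Coprime p) : Good p X := by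
  obtain ⟨s, hs, hs1⟩ := (bot_or_exists_ne_one S).resolve_left hS1
  have hdisj : ∀ a ∈ R, ∀ b ∈ S, a * b = b * a := by
    intro a ha b hb
    have hmem : a * b * a⁻¹ * b⁻¹ ∈ R ⊓ S := by
      refine ⟨?_, S.mul_mem ((mem_normalizer_iff.1 (hSX (hR ha)) b).1 hb) (S.inv_mem hb)⟩
      have := R.mul_mem ha ((mem_normalizer_iff.1 (hRX (hS hb)) a⁻¹).1 (R.inv_mem ha))
      simpa [mul_assoc] using this
    have hbot : R ⊓ S = ⊥ := by
      apply Subgroup.inf_eq_bot_of_coprime
      obtain ⟨k, hk⟩ := IsPGroup.iff_card.1 hRp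
      rw [hk]
      exact hScop.symm.pow_left k
    rw [hbot, mem_bot, mul_inv_eq_one, mul_inv_eq_iff_eq_mul] at hmem
    exact hmem
  have hle : ∀ A : Subgroup G, A ≤ X → IsPGroup p A → A ≤ centralizer ({s} : Set G) := by
    intro A hA hAp a ha
    obtain ⟨z, hz, hz1, hfix⟩ := exists_fixed hAp hRp hR1 (hA.trans hRX)
    apply mem_centralizer_singleton_of_comm
    refine commute_of_common hCN hz1 (hfix a ha) (hdisj z hz s hs).symm ?_
    obtain ⟨i, hi⟩ := (IsPGroup.iff_orderOf).1 hAp ⟨a, ha⟩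
    rw [← Subgroup.orderOf_coe] at hi
    rw [show orderOf a = p ^ i from hi]
    exact ((hScop.coprime_dvd_left (Subgroup.orderOf_dvd_natCard S hs)).pow_right i).symm
  intro A B hA hB hAp hBp
  exact good_of_nilpotent (hCN s hs1) A B (hle A hA hAp) (hle B hB hBp) hAp hBp

/-- Goodness of a subgroup of `X` seen inside `X`. -/
theorem good_of_good_top [Finite G] {p : ℕ} {X : Subgroup G} (h : Good p (⊤ : Subgroup X)) :
    Good p X := by
  intro A B hA hB hAp hBp
  have := h (A.subgroupOf X) (B.subgroupOf X) le_top le_top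
    (hAp.comap_of_injective X.subtype X.subtype_injective)
    (hBp.comap_of_injective X.subtype X.subtype_injective)
  have h2 := this.map X.subtype
  rw [Subgroup.map_sup, Subgroup.map_subgroupOf_eq_of_le hA,
    Subgroup.map_subgroupOf_eq_of_le hB] at h2
  exact h2

end Cfsg.Agent.CharInd.CN
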