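import Cfsg.Agent.CharInd.CN.Local
import Cfsg.Agent.CharInd.Frobenius

/-!
# The trivial-intersection nilpotent Hall subgroups of a minimal counterexample
-/

namespace Cfsg.Agent.CharInd.CN

open Subgroup
open scoped Pointwise

universe u

variable {G : Type u} [Group G]

/-- A nilpotent subgroup containing the centralisers of its nontrivial elements. -/
structure IsHallPart (H : Subgroup G) : Prop where
  ne_bot : H ≠ ⊥
  nil : Group.IsNilpotent H
  cent : ∀ x ∈ H, x ≠ 1 → centralizer ({x} : Set G) ≤ H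

variable [Finite G]

/-- Subgroup inclusion is decided by elements of prime power order. -/
theorem le_of_forall_pElem {X K : Subgroup G}
    (h : ∀ q : ℕ, q.Prime → ∀ a ∈ X, ∀ i : ℕ, orderOf a = q ^ i → a ∈ K) : X ≤ K := by
  rw [← subgroupOf_eq_top]
  apply Cores.eq_top_of_forall_sylow_le
  intro q hq
  haveI : Fact q.Prime := ⟨hq⟩
  obtain ⟨P⟩ : Nonempty (Sylow q X) := inferInstance
  refine ⟨P, fun a ha => ?_⟩
  obtain ⟨i, hi⟩ := (IsPGroup.iff_orderOf).1 P.2 ⟨a, ha⟩
  rw [← Subgroup.orderOf_coe, ← Subgroup.orderOf_coe] at hi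
  exact h q hq a a.2 i hi

variable (hm : Minimal G)
include hm

/-- In a nilpotent subgroup, `p`-elements lie in the Sylow subgroup of a nontrivial one. -/
theorem mem_sylow_of_nilpotent {p : ℕ} [Fact p.Prime] (P : Sylow p G) {K : Subgroup G}
    (hK : Group.IsNilpotent K) {a z : G} {i : ℕ} (ha : a ∈ K) (hz : z ∈ K) (hz1 : z ≠ 1)
    (hzP : z ∈ (P : Subgroup G)) (hai : orderOf a = p ^ i) : a ∈ (P : Subgroup G) := by
  have hzp : IsPGroup p (zpowers z) := P.2.to_le (zpowers_le.2 hzP)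
  have hap : IsPGroup p (zpowers a) := IsPGroup.iff_card.2 ⟨i, by rw [Nat.card_zpowers, hai]⟩
  obtain ⟨S, hS⟩ := (good_of_nilpotent hK (zpowers a) (zpowers z) (zpowers_le.2 ha)
    (zpowers_le.2 hz) hap hzp).exists_le_sylow
  have hzS : z ∈ (S : Subgroup G) := hS ((le_sup_right : zpowers z ≤ _) (mem_zpowers z))
  rw [sylow_eq_of_inf_ne_bot hm P S (fun h => hz1 (mem_bot.1 (h ▸ ⟨hzP, hzS⟩)))]
  exact hS ((le_sup_left : zpowers a ≤ _) (mem_zpowers a))

/-- Centralisers of elements of a Sylow subgroup lie in that of a central one. -/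
theorem centralizer_le_centralizer_center {p : ℕ} [Fact p.Prime] (P : Sylow p G) {z : G}
    (hz : z ∈ (P : Subgroup G)) (hzc : ∀ a ∈ (P : Subgroup G), a * z = z * a) {x : G}
    (hx : x ∈ (P : Subgroup G)) (hx1 : x ≠ 1) :
    centralizer ({x} : Set G) ≤ centralizer ({z} : Set G) := by
  refine le_of_forall_pElem fun q hq a ha i hi => ?_
  haveI : Fact q.Prime := ⟨hq⟩
  rw [mem_centralizer_singleton_iff]
  rcases eq_or_ne q p with h | h
  · subst h
    exact hzc a (mem_sylow_of_nilpotent hm P (hm.cn x hx1) ha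
      (mem_centralizer_singleton_iff.2 rfl) hx1 hx hi)
  · refine commute_of_common hm.cn hx1 (mem_centralizer_singleton_iff.1 ha) (hzc x hx).symm ?_
    obtain ⟨j, hj⟩ := (IsPGroup.iff_orderOf).1 P.2 ⟨z, hz⟩
    rw [← Subgroup.orderOf_coe] at hj
    rw [show orderOf z = p ^ j from hj, hi]
    exact Nat.coprime_pow_primes _ _ hq Fact.out h

theorem exists_central {p : ℕ} [Fact p.Prime] (P : Sylow p G) {x : G} (hx : x ∈ (P : Subgroup G))
    (hx1 : x ≠ 1) : ∃ z ∈ (P : Subgroup G), z ≠ 1 ∧ ∀ a ∈ (P : Subgroup G), a * z = z * a :=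
  exists_fixed P.2 P.2 (fun h => hx1 (mem_bot.1 (h ▸ hx))) le_normalizer

/-- The centraliser of a central element of a Sylow subgroup is a Hall part. -/
theorem isHallPart_centralizer {p : ℕ} [hp : Fact p.Prime] (P : Sylow p G) {z : G}
    (hz : z ∈ (P : Subgroup G)) (hz1 : z ≠ 1) (hzc : ∀ a ∈ (P : Subgroup G), a * z = z * a) :
    IsHallPart (centralizer ({z} : Set G)) := by
  have hzz : z ∈ centralizer ({z} : Set G) := mem_centralizer_singleton_iff.2 rfl
  refine ⟨fun h => hz1 (mem_bot.1 (h ▸ hzz)), hm.cn z hz1, fun w hw hw1 => ?_⟩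
  -- reduce to an element of prime order
  obtain ⟨q, hq, hqd⟩ := Nat.exists_prime_and_dvd (fun h => hw1 (orderOf_eq_one_iff.1 h))
  haveI : Fact q.Prime := ⟨hq⟩
  set w' := w ^ (orderOf w / q) with hw'
  have hw'o : orderOf w' = q := orderOf_pow_orderOf_div (orderOf_pos w).ne' hqd
  have hw'1 : w' ≠ 1 := fun h => hq.one_lt.ne (by rw [← hw'o, h, orderOf_one])
  have h1 : centralizer ({w} : Set G) ≤ centralizer ({w'} : Set G) := fun a ha =>
    mem_centralizer_singleton_iff.2
      ((Commute.pow_right (show Commute a w from mem_centralizer_singleton_iff.1 ha) _).eq)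
  refine h1.trans ?_
  obtain ⟨S, hS⟩ := (IsPGroup.iff_card.2 ⟨1, by rw [Nat.card_zpowers, hw'o, pow_one]⟩ :
    IsPGroup q (zpowers w')).exists_le_sylow
  have hwS : w' ∈ (S : Subgroup G) := hS (mem_zpowers w')
  obtain ⟨s, hs, hs1, hsc⟩ := exists_central hm S hwS hw'1
  refine (centralizer_le_centralizer_center hm S hs hsc hwS hw'1).trans ?_
  have hzw : z ∈ centralizer ({w'} : Set G) := by
    rw [mem_centralizer_singleton_iff]
    exact ((Commute.pow_left (show Commute w z from mem_centralizer_singleton_iff.1 hw) _).eq).symm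
  have hzs : z ∈ centralizer ({s} : Set G) := centralizer_le_centralizer_center hm S hs hsc hwS hw'1 hzw
  refine le_of_forall_pElem fun r hr a ha i hi => mem_centralizer_singleton_iff.2 ?_
  haveI : Fact r.Prime := ⟨hr⟩
  rcases eq_or_ne r p with h | h
  · subst h
    exact hzc a (mem_sylow_of_nilpotent hm P (hm.cn s hs1) ha hzs hz1 hz hi)
  · refine commute_of_nilpotent (hm.cn s hs1) ha hzs ?_
    obtain ⟨j, hj⟩ := (IsPGroup.iff_orderOf).1 P.2 ⟨z, hz⟩
    rw [← Subgroup.orderOf_coe] at hj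
    rw [show orderOf z = p ^ j from hj, hi]
    exact Nat.coprime_pow_primes _ _ hr Fact.out h

/-- Hall parts cover the group. -/
theorem exists_isHallPart {x : G} (hx : x ≠ 1) : ∃ H : Subgroup G, IsHallPart H ∧ x ∈ H := by
  obtain ⟨q, hq, hqd⟩ := Nat.exists_prime_and_dvd (fun h => hx (orderOf_eq_one_iff.1 h))
  haveI : Fact q.Prime := ⟨hq⟩
  set x' := x ^ (orderOf x / q) with hx'
  have hx'o : orderOf x' = q := orderOf_pow_orderOf_div (orderOf_pos x).ne' hqd
  have hx'1 : x' ≠ 1 := fun h => hq.one_lt.ne (by rw [← hx'o, h, orderOf_one])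
  obtain ⟨S, hS⟩ := (IsPGroup.iff_card.2 ⟨1, by rw [Nat.card_zpowers, hx'o, pow_one]⟩ :
    IsPGroup q (zpowers x')).exists_le_sylow
  obtain ⟨s, hs, hs1, hsc⟩ := exists_central hm S (hS (mem_zpowers x')) hx'1
  refine ⟨_, isHallPart_centralizer hm S hs hs1 hsc,
    centralizer_le_centralizer_center hm S hs hsc (hS (mem_zpowers x')) hx'1 ?_⟩
  exact mem_centralizer_singleton_iff.2 (Commute.self_pow x _).eq

omit hm in
theorem IsHallPart.exists_central {H : Subgroup G} (hH : IsHallPart H) :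
    ∃ w ∈ H, w ≠ 1 ∧ ∀ a ∈ H, a * w = w * a := by
  haveI := hH.nil
  haveI : Nontrivial H := (H.bot_or_nontrivial).resolve_left hH.ne_bot
  haveI : Nontrivial (center H) := (nontrivial_iff_ne_bot _).2 (Group.IsNilpotent.center_ne_bot H)
  obtain ⟨w, hw1⟩ := exists_ne (1 : center H)
  exact ⟨(w : H), (w : H).2, fun h => hw1 (Subtype.ext (Subtype.ext h)),
    fun a ha => congrArg Subtype.val (mem_center_iff.1 w.2 ⟨a, ha⟩)⟩

omit hm in
/-- Hall parts sharing an element coincide. -/
theorem IsHallPart.eq {H K : Subgroup G} (hH : IsHallPart H) (hK : IsHallPart K) {x : G}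
    (hxH : x ∈ H) (hxK : x ∈ K) (hx : x ≠ 1) : H = K := by
  have key : ∀ {H K : Subgroup G}, IsHallPart H → IsHallPart K → x ∈ H → x ∈ K → H ≤ K := by
    intro H K hH hK hxH hxK a ha
    obtain ⟨w, -, hw1, hwc⟩ := IsHallPart.exists_central hH
    have hwK : w ∈ K := hK.cent x hxK hx (mem_centralizer_singleton_iff.2 (hwc x hxH).symm)
    exact hK.cent w hwK hw1 (mem_centralizer_singleton_iff.2 (hwc a ha))
  exact le_antisymm (key hH hK hxH hxK) (key hK hH hxK hxH)

omit hm in
theorem IsHallPart.map {H : Subgroup G} (hH : IsHallPart H) (g : G) :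
    IsHallPart (H.map (MulAut.conj g : G →* G)) := by
  refine ⟨fun h => hH.ne_bot ((map_eq_bot_iff_of_injective _ (MulAut.conj g).injective).1 h), ?_, ?_⟩
  · haveI := hH.nil
    exact Group.nilpotent_of_surjective (H.equivMapOfInjective _ (MulAut.conj g).injective).toMonoidHom
      (H.equivMapOfInjective _ (MulAut.conj g).injective).surjective
  · rintro _ ⟨x, hx, rfl⟩ hx1 a ha
    refine ⟨g⁻¹ * a * g, hH.cent x hx (fun h => hx1 (by simp [h])) ?_, by simp [mul_assoc]⟩
    rw [mem_centralizer_singleton_iff] at ha ⊢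
    have e : a * (g * x * g⁻¹) = g * x * g⁻¹ * a := ha
    calc g⁻¹ * a * g * x = g⁻¹ * (a * (g * x * g⁻¹)) * g := by group
      _ = g⁻¹ * (g * x * g⁻¹ * a) * g := by rw [e]
      _ = x * (g⁻¹ * a * g) := by group

omit hm in
/-- Trivial intersection. -/
theorem IsHallPart.mem_normalizer {H : Subgroup G} (hH : IsHallPart H) {g x : G} (hx : x ∈ H)
    (hx1 : x ≠ 1) (hg : g * x * g⁻¹ ∈ H) : g ∈ normalizer (H : Set G) := by
  rw [mem_normalizer_iff_map_conj_eq]
  exact IsHallPart.eq (hH.map g) hH ⟨x, hx, rfl⟩ hg (by simpa using hx1)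

omit hm in
/-- Elements normalising a Hall part outside it act without fixed points. -/
theorem IsHallPart.eq_one_of_commute {H : Subgroup G} (hH : IsHallPart H) {n x : G} (hn : n ∉ H)
    (hx : x ∈ H) (h : n * x = x * n) : x = 1 := by
  by_contra hx1
  exact hn (hH.cent x hx hx1 (mem_centralizer_singleton_iff.2 h))

/-- Hall parts are Hall subgroups. -/
theorem IsHallPart.coprime_index {H : Subgroup G} (hH : IsHallPart H) :
    (Nat.card H).Coprime H.index := by
  refine Nat.coprime_of_dvd fun q hq hd hdi => ?_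
  haveI : Fact q.Prime := ⟨hq⟩
  obtain ⟨w, hw⟩ := exists_prime_orderOf_dvd_card' (G := H) q hd
  obtain ⟨S, hS⟩ := (IsPGroup.iff_card.2 ⟨1, by rw [Nat.card_zpowers, Subgroup.orderOf_coe, hw, pow_one]⟩ :
    IsPGroup q (zpowers (w : G))).exists_le_sylow
  have hw1 : (w : G) ≠ 1 := by
    rw [ne_eq, OneMemClass.coe_eq_one]
    intro h
    rw [h, orderOf_one] at hw
    exact hq.one_lt.ne hw
  obtain ⟨s, hs, hs1, hsc⟩ := CN.exists_central hm S (hS (mem_zpowers (w : G))) hw1
  have hsH : s ∈ H := hH.cent w w.2 hw1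
    (mem_centralizer_singleton_iff.2 (hsc w (hS (mem_zpowers (w : G)))).symm)
  have hSH : (S : Subgroup G) ≤ H := fun a ha =>
    hH.cent s hsH hs1 (mem_centralizer_singleton_iff.2 (hsc a ha))
  exact S.not_dvd_index (hdi.trans (Subgroup.index_dvd_of_le hSH))

theorem IsHallPart.ne_top {H : Subgroup G} (hH : IsHallPart H) : H ≠ ⊤ := by
  intro h
  haveI := hH.nil
  subst h
  haveI : Group.IsNilpotent G := Group.isNilpotent_top.1 ‹_›
  exact hm.nsolv inferInstance

/-- Hall parts are not self-normalising. -/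
theorem IsHallPart.normalizer_ne {H : Subgroup G} (hH : IsHallPart H) :
    normalizer (H : Set G) ≠ H := by
  intro h
  have hTI : ∀ g : G, g ∉ H → ∀ x ∈ H, g * x * g⁻¹ ∈ H → x = 1 := fun g hg x hx hgx => by
    by_contra hx1
    exact hg (h ▸ hH.mem_normalizer hx hx1 hgx)
  obtain ⟨K, hKn, -, hc⟩ := CharInd.frobenius_kernel H hTI
  haveI := hm.simple
  rcases hKn.eq_bot_or_eq_top with hb | ht
  · subst hb
    exact hH.ne_top hm (isComplement'_bot_left.1 hc)
  · subst ht
    exact hH.ne_bot (isComplement'_top_left.1 hc)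

end Cfsg.Agent.CharInd.CN
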