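import Cfsg.Agent.CharInd.CN.Reduction
import Cfsg.Agent.Transfer.Fusion

/-!
# Local subgroups of a minimal counterexample: Sylow subgroups are TI
-/

namespace Cfsg.Agent.CharInd.CN

open Subgroup
open scoped Pointwise

universe u

variable {G : Type u} [Group G]

/-- Abelian subgroup of `S` of largest order. -/
def IsMaxAb (S A : Subgroup G) : Prop :=
  A ≤ S ∧ (∀ a ∈ A, ∀ b ∈ A, a * b = b * a) ∧
    ∀ B : Subgroup G, B ≤ S → (∀ a ∈ B, ∀ b ∈ B, a * b = b * a) → Nat.card B ≤ Nat.card A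

/-- The Thompson subgroup of `S`. -/
def maxAb (S : Subgroup G) : Subgroup G := sSup {A | IsMaxAb S A}

theorem maxAb_le (S : Subgroup G) : maxAb S ≤ S := sSup_le fun _ h => h.1

theorem isMaxAb_map {H : Type u} [Group H] (e : G ≃* H) {S A : Subgroup G} (h : IsMaxAb S A) :
    IsMaxAb (S.map (e : G →* H)) (A.map (e : G →* H)) := by
  refine ⟨map_mono h.1, ?_, fun B hB hc => ?_⟩
  · rintro _ ⟨a, ha, rfl⟩ _ ⟨b, hb, rfl⟩
    rw [← map_mul, ← map_mul, h.2.1 a ha b hb]
  · have h1 : B.map (e.symm : H →* G) ≤ S := by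
      rintro _ ⟨b, hb, rfl⟩
      obtain ⟨s, hs, hse⟩ := hB hb
      rw [← hse]
      simpa using hs
    have h2 := h.2.2 _ h1 (by
      rintro _ ⟨a, ha, rfl⟩ _ ⟨b, hb, rfl⟩
      rw [← map_mul, ← map_mul, hc a ha b hb])
    rw [Nat.card_congr (B.equivMapOfInjective _ e.symm.injective).toEquiv.symm] at h2
    rw [Nat.card_congr (A.equivMapOfInjective _ e.injective).toEquiv.symm]
    exact h2

theorem map_maxAb {H : Type u} [Group H] (e : G ≃* H) (S : Subgroup G) :
    (maxAb S).map (e : G →* H) = maxAb (S.map (e : G →* H)) := by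
  have hle : ∀ {G H : Type u} [Group G] [Group H] (e : G ≃* H) (S : Subgroup G),
      (maxAb S).map (e : G →* H) ≤ maxAb (S.map (e : G →* H)) := by
    intro G H _ _ e S
    rw [map_le_iff_le_comap]
    exact sSup_le fun A hA => map_le_iff_le_comap.1 (le_sSup (isMaxAb_map e hA))
  refine le_antisymm (hle e S) ?_
  intro x hx
  have h1 := hle e.symm (S.map (e : G →* H)) ⟨x, hx, rfl⟩
  rw [map_map, show ((e.symm : H →* G)).comp (e : G →* H) = MonoidHom.id G from
    MonoidHom.ext fun g => e.symm_apply_apply g, map_id] at h1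
  exact ⟨e.symm x, h1, e.apply_symm_apply x⟩

theorem exists_isMaxAb [Finite G] (S : Subgroup G) : ∃ A, IsMaxAb S A := by
  obtain ⟨A, ⟨hA, hAc⟩, hmax⟩ := Set.Finite.exists_maximalFor (fun A : Subgroup G => Nat.card A)
    {A : Subgroup G | A ≤ S ∧ ∀ a ∈ A, ∀ b ∈ A, a * b = b * a} (Set.toFinite _)
    ⟨⊥, bot_le, fun a ha b hb => by rw [mem_bot.1 ha, mem_bot.1 hb]⟩
  refine ⟨A, hA, hAc, fun B hB hc => ?_⟩
  rcases le_total (Nat.card B) (Nat.card A) with h | h
  · exact h
  · exact hmax ⟨hB, hc⟩ h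

theorem maxAb_ne_bot [Finite G] {S : Subgroup G} (h : S ≠ ⊥) : maxAb S ≠ ⊥ := by
  intro hbot
  obtain ⟨A, hA⟩ := exists_isMaxAb S
  have hA1 : A = ⊥ := le_bot_iff.1 (hbot ▸ le_sSup hA)
  obtain ⟨z, hz, hz1⟩ := (bot_or_exists_ne_one S).resolve_left h
  have := hA.2.2 (zpowers z) (zpowers_le.2 hz) (fun a ha b hb => by
    obtain ⟨i, rfl⟩ := mem_zpowers_iff.1 ha
    obtain ⟨j, rfl⟩ := mem_zpowers_iff.1 hb
    rw [← zpow_add, ← zpow_add, add_comm])
  rw [hA1, Subgroup.card_bot, Nat.card_zpowers] at this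
  exact hz1 (orderOf_eq_one_iff.1 (le_antisymm this (orderOf_pos z)))

theorem map_conj_of_mem_normalizer {S : Subgroup G} {g : G} (hg : g ∈ normalizer (S : Set G)) :
    S.map (MulAut.conj g : G →* G) = S :=
  Subgroup.mem_normalizer_iff_map_conj_eq.1 hg

/-- The normaliser of `S` normalises its Thompson subgroup. -/
theorem normalizer_le_normalizer_maxAb (S : Subgroup G) :
    normalizer (S : Set G) ≤ normalizer (maxAb S : Set G) := by
  intro g hg
  rw [Subgroup.mem_normalizer_iff_map_conj_eq]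
  exact (map_maxAb (MulAut.conj g) S).trans (congrArg maxAb (map_conj_of_mem_normalizer hg))

/-- The local subgroup attached to a Sylow subgroup. -/
def thompsonLocal (S : Subgroup G) : Subgroup G := normalizer (maxAb S : Set G)

theorem le_thompsonLocal (S : Subgroup G) : S ≤ thompsonLocal S :=
  le_normalizer.trans (normalizer_le_normalizer_maxAb S)

theorem thompsonLocal_conj (g : G) (S : Subgroup G) :
    thompsonLocal (S.map (MulAut.conj g : G →* G)) =
      (thompsonLocal S).map (MulAut.conj g : G →* G) := by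
  rw [thompsonLocal, thompsonLocal, ← map_maxAb]
  exact (Subgroup.map_equiv_normalizer_eq _ (MulAut.conj g)).symm

variable [Finite G] {p : ℕ} [hp : Fact p.Prime]

theorem normalizer_ne_top (hm : Minimal G) {R : Subgroup G} (hR : IsPGroup p R) (hR1 : R ≠ ⊥) :
    normalizer (R : Set G) ≠ ⊤ := by
  intro h
  have hn : R.Normal := normalizer_eq_top_iff.1 h
  haveI := hm.simple
  rcases hn.eq_bot_or_eq_top with h | h
  · exact hR1 h
  · haveI := hR.isNilpotent
    subst h
    haveI : Group.IsNilpotent G := Group.isNilpotent_top.1 ‹_›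
    exact hm.nsolv inferInstance

theorem thompsonLocal_ne_top (hm : Minimal G) {S : Subgroup G} (hS : IsPGroup p S) (hS1 : S ≠ ⊥) :
    thompsonLocal S ≠ ⊤ :=
  normalizer_ne_top hm (hS.to_le (maxAb_le S)) (maxAb_ne_bot hS1)

/-- Structure of a bad local subgroup. -/
theorem bad_structure (hm : Minimal G) {X R' : Subgroup G} (hR'p : IsPGroup p R') (hR'1 : R' ≠ ⊥)
    (hle : R' ≤ X) (hnorm : X ≤ normalizer (R' : Set G)) (hbad : ¬ Good p X) :
    ∃ R : Subgroup G, R ≤ X ∧ IsPGroup p R ∧ R ≠ ⊥ ∧ X ≤ normalizer (R : Set G) ∧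
      (∀ x ∈ ⁅X, X⁆, ∀ i : ℕ, orderOf x = p ^ i → x ∈ R) ∧
      ∀ P0 : Subgroup G, IsPMax p X P0 → R ≤ P0 ∧ X ≤ normalizer (maxAb P0 : Set G) := by
  have hX : X ≠ ⊤ := fun h => normalizer_ne_top hm hR'p hR'1 (top_le_iff.1 (h ▸ hnorm))
  haveI := hm.sub X hX
  have hoddX : Odd (Nat.card X) := Odd.of_dvd_nat hm.odd (Subgroup.card_subgroup_dvd_card X)
  have hCNX := isCNGroup_subgroup hm.cn X
  set K := Cfsg.pCore p X with hK
  have hK1 : K ≠ ⊥ := by
    intro h
    have hn : (R'.subgroupOf X).Normal := (normal_subgroupOf_iff_le_normalizer hle).2 hnorm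
    have := Cores.le_pCore (p := p) hn (hR'p.comap_of_injective X.subtype X.subtype_injective)
    rw [← hK, h, le_bot_iff, subgroupOf_eq_bot] at this
    exact hR'1 (by rw [← this.eq_bot, inf_eq_left.2 hle])
  have hC : centralizer (K : Set X) ≤ K := by
    by_contra hC
    obtain ⟨q, hq, hqp, hq1⟩ := exists_other_core hCNX hK1 hC
    exact hbad (good_of_good_top (good_top_of_two_cores hCNX hq hqp hK1 hq1))
  have hKp : IsPGroup p K := Cores.pCore_isPGroup
  set R := K.map X.subtype with hR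
  have hRX : R ≤ X := map_subtype_le _
  have hRn : X ≤ normalizer (R : Set G) := by
    rw [← normal_subgroupOf_iff_le_normalizer hRX, hR]
    have : (map X.subtype K).subgroupOf X = K := comap_map_eq_self_of_injective X.subtype_injective K
    rw [this]
    exact Cores.pCore_normal_inst p X
  refine ⟨R, hRX, hKp.map _, fun h => hK1 ((map_eq_bot_iff_of_injective _ X.subtype_injective).1 h),
    hRn, ?_, ?_⟩
  · intro x hx i hi
    have hcomm : ⁅X, X⁆ = (commutator X).map X.subtype := by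
      rw [commutator_def, map_commutator, ← MonoidHom.range_eq_map, range_subtype]
    rw [hcomm] at hx
    obtain ⟨y, hy, rfl⟩ := hx
    rw [coe_subtype, Subgroup.orderOf_coe] at hi
    exact ⟨y, mem_core_of_commutator hCNX hoddX hK1 hC hy hi, rfl⟩
  · intro P0 hP0
    have hRP0 : R ≤ P0 := by
      have := hP0.2.2 (R ⊔ P0) (sup_le hRX hP0.1)
        (by rw [sup_comm]; exact sup_isPGroup hP0.2.1 (hKp.map _) (hP0.1.trans hRn)) le_sup_right
      exact le_sup_left.trans this.le
    refine ⟨hRP0, ?_⟩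
    have hfam : ∀ A : Subgroup G, IsMaxAb P0 A → A ≤ R := by
      intro A hA
      by_contra hAR
      have hAX : A ≤ X := hA.1.trans hP0.1
      obtain ⟨B, hB, hBc, hlt⟩ := exists_larger_abelian hCNX hoddX hK1 hC (A := A.subgroupOf X)
        ((hP0.2.1.to_le hA.1).comap_of_injective X.subtype X.subtype_injective)
        (fun a ha b hb => Subtype.ext (hA.2.1 _ ha _ hb))
        (fun h => hAR (fun a ha => ⟨⟨a, hAX ha⟩, h ha, rfl⟩))
      have h1 := hA.2.2 (B.map X.subtype) ((map_mono hB).trans hRP0) (by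
        rintro _ ⟨a, ha, rfl⟩ _ ⟨b, hb, rfl⟩
        exact congrArg Subtype.val (hBc a ha b hb))
      rw [Nat.card_congr (B.equivMapOfInjective _ X.subtype_injective).toEquiv.symm] at h1
      rw [Nat.card_congr (subgroupOfEquivOfLe hAX).toEquiv] at hlt
      omega
    have hsub : ∀ g ∈ X, (maxAb P0).map (MulAut.conj g : G →* G) ≤ maxAb P0 := by
      intro g hg
      rw [map_le_iff_le_comap]
      refine sSup_le fun A hA => map_le_iff_le_comap.1 (le_sSup ?_)
      refine ⟨?_, ?_, fun B hB hc => (hA.2.2 B hB hc).trans_eq ?_⟩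
      · rintro _ ⟨a, ha, rfl⟩
        exact hRP0 ((mem_normalizer_iff.1 (hRn hg) a).1 (hfam A hA ha))
      · rintro _ ⟨a, ha, rfl⟩ _ ⟨b, hb, rfl⟩
        rw [← map_mul, ← map_mul, hA.2.1 a ha b hb]
      · exact Nat.card_congr (A.equivMapOfInjective _ (MulAut.conj g).injective).toEquiv
    intro g hg
    rw [mem_normalizer_iff]
    intro a
    exact ⟨fun ha => hsub g hg ⟨a, ha, rfl⟩, fun ha => by
      have := hsub g⁻¹ (X.inv_mem hg) ⟨_, ha, rfl⟩
      simpa [mul_assoc] using this⟩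

/-- A bad local subgroup lies in the local subgroup of a Sylow subgroup, itself bad. -/
theorem exists_thompsonLocal (hm : Minimal G) {X R' : Subgroup G} (hR'p : IsPGroup p R')
    (hR'1 : R' ≠ ⊥) (hle : R' ≤ X) (hnorm : X ≤ normalizer (R' : Set G)) (hbad : ¬ Good p X) :
    ∃ S : Sylow p G, X ≤ thompsonLocal (S : Subgroup G) := by
  obtain ⟨P0, hP0⟩ := exists_isPMax' p X
  obtain ⟨R, -, -, hR1, -, -, hP⟩ := bad_structure hm hR'p hR'1 hle hnorm hbad
  obtain ⟨hRP0, hXle⟩ := hP P0 hP0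
  -- enlarge the `p`-subgroup as far as possible
  obtain ⟨P1, ⟨hP1p, hP11, hXP1⟩, hmax⟩ := Set.Finite.exists_maximalFor
    (fun P : Subgroup G => Nat.card P)
    {P : Subgroup G | IsPGroup p P ∧ P ≠ ⊥ ∧ X ≤ thompsonLocal P} (Set.toFinite _)
    ⟨P0, hP0.2.1, fun h => hR1 (le_bot_iff.1 (h ▸ hRP0)), hXle⟩
  obtain ⟨S, hS⟩ := hP1p.exists_le_sylow
  refine ⟨S, ?_⟩
  rcases eq_or_lt_of_le hS with he | hlt
  · rw [← he]; exact hXP1
  exfalso
  -- the normaliser grows
  have hlt' : P1 < (S : Subgroup G) ⊓ normalizer (P1 : Set G) := by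
    refine lt_of_le_of_ne (le_inf hS le_normalizer) fun he => ?_
    haveI : Group.IsNilpotent (S : Subgroup G) := S.2.isNilpotent
    have hnc := normalizerCondition_of_isNilpotent (G := (S : Subgroup G)) (P1.subgroupOf S)
      (lt_of_le_of_ne le_top fun h => hlt.not_ge (subgroupOf_eq_top.1 h))
    refine hnc.not_ge ?_
    intro x hx
    rw [mem_subgroupOf, he]
    refine ⟨x.2, ?_⟩
    have := subgroupOf_normalizer_eq hS
    rw [SetLike.ext_iff] at this
    exact (this x).2 hx
  set L := thompsonLocal P1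
  have hNL : (S : Subgroup G) ⊓ normalizer (P1 : Set G) ≤ L :=
    inf_le_right.trans (normalizer_le_normalizer_maxAb P1)
  have hLbad : ¬ Good p L := fun h => hbad (good_mono h hXP1)
  obtain ⟨P2, hP2, hP2max⟩ := exists_isPMax hNL (S.2.to_le inf_le_left)
  obtain ⟨R1, -, -, -, -, -, hP'⟩ := bad_structure hm (hP1p.to_le (maxAb_le P1)) (maxAb_ne_bot hP11)
    le_normalizer le_rfl hLbad
  have hcard := hmax ⟨hP2max.2.1, fun h => hP11 (le_bot_iff.1 (h ▸ (hlt'.le.trans hP2))),
    hXP1.trans (hP' P2 hP2max).2⟩ (card_le_of_le (hlt'.le.trans hP2))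
  exact (hlt'.trans_le hP2).ne (eq_of_le_of_card_ge (hlt'.le.trans hP2) hcard)

section Local

variable (hm : Minimal G)
include hm

omit hm [Finite G] hp in
theorem sylow_map_conj (S : Sylow p G) (g : G) :
    ((g • S : Sylow p G) : Subgroup G) = (S : Subgroup G).map (MulAut.conj g : G →* G) := rfl

omit hm in
/-- `p`-subgroups of a local subgroup of a Sylow subgroup. -/
theorem exists_sylow_le (S : Sylow p G) {Y : Subgroup G}
    (hY : Y ≤ thompsonLocal (S : Subgroup G)) (hYp : IsPGroup p Y) :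
    ∃ T : Sylow p G, Y ≤ T ∧ (T : Subgroup G) ≤ thompsonLocal (S : Subgroup G) ∧
      thompsonLocal (T : Subgroup G) = thompsonLocal (S : Subgroup G) := by
  set L := thompsonLocal (S : Subgroup G)
  have hSL : (S : Subgroup G) ≤ L := le_thompsonLocal _
  obtain ⟨Q, hQ⟩ := (hYp.comap_of_injective L.subtype L.subtype_injective :
    IsPGroup p (Y.subgroupOf L)).exists_le_sylow
  obtain ⟨l, hl⟩ := MulAction.exists_smul_eq L (S.subtype hSL) Q
  refine ⟨(l : G) • S, ?_, ?_, ?_⟩
  · intro y hy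
    have h1 : (⟨y, hY hy⟩ : L) ∈ (Q : Subgroup L) := hQ hy
    rw [← hl] at h1
    obtain ⟨s, hs, hse⟩ := h1
    exact ⟨s, hs, congrArg Subtype.val hse⟩
  · rintro _ ⟨s, hs, rfl⟩
    exact L.mul_mem (L.mul_mem l.2 (hSL hs)) (L.inv_mem l.2)
  · show thompsonLocal ((S : Subgroup G).map (MulAut.conj (l : G) : G →* G)) = L
    rw [thompsonLocal_conj]
    exact map_conj_of_mem_normalizer (le_normalizer l.2)

omit hm in
theorem thompsonLocal_eq_of_le {S T : Sylow p G}
    (h : (T : Subgroup G) ≤ thompsonLocal (S : Subgroup G)) :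
    thompsonLocal (T : Subgroup G) = thompsonLocal (S : Subgroup G) := by
  obtain ⟨T', hT, -, he⟩ := exists_sylow_le S h T.2
  rw [← he, T.is_maximal' T'.2 hT]

omit hm in
theorem lt_inf_normalizer {P : Sylow p G} {D : Subgroup G} (h : D < (P : Subgroup G)) :
    D < (P : Subgroup G) ⊓ normalizer (D : Set G) := by
  refine lt_of_le_of_ne (le_inf h.le le_normalizer) fun he => ?_
  haveI : Group.IsNilpotent (P : Subgroup G) := P.2.isNilpotent
  have hnc := normalizerCondition_of_isNilpotent (G := (P : Subgroup G)) (D.subgroupOf P)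
    (lt_of_le_of_ne le_top fun h' => h.not_ge (subgroupOf_eq_top.1 h'))
  refine hnc.not_ge ?_
  intro x hx
  rw [mem_subgroupOf, he]
  refine ⟨x.2, ?_⟩
  have := subgroupOf_normalizer_eq h.le
  rw [SetLike.ext_iff] at this
  exact (this x).2 hx

theorem sylow_le_thompsonLocal : ∀ P Q : Sylow p G, (P : Subgroup G) ⊓ Q ≠ ⊥ →
    (Q : Subgroup G) ≤ thompsonLocal (P : Subgroup G) := by
  suffices ∀ n, ∀ P Q : Sylow p G, (P : Subgroup G) ⊓ Q ≠ ⊥ →
      Nat.card G - Nat.card ((P : Subgroup G) ⊓ Q : Subgroup G) = n →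
      (Q : Subgroup G) ≤ thompsonLocal (P : Subgroup G) from fun P Q h => this _ P Q h rfl
  intro n
  induction n using Nat.strong_induction_on with
  | _ n ih =>
  intro P Q hD1 hn
  set D := (P : Subgroup G) ⊓ Q with hD
  by_cases hPQ : (P : Subgroup G) ≤ Q
  · rw [P.is_maximal' Q.2 hPQ]; exact le_thompsonLocal _
  have hDP : D < (P : Subgroup G) :=
    lt_of_le_of_ne inf_le_left fun h => hPQ (h ▸ inf_le_right)
  have hDQ : D < (Q : Subgroup G) :=
    lt_of_le_of_ne inf_le_right fun h => hPQ (by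
      rw [Q.is_maximal' P.2 (h ▸ inf_le_left)])
  have hD1' : D ≠ ⊥ := hD1
  -- two Sylow subgroups meeting both
  have step : ∀ (A : Sylow p G) (T : Sylow p G), D < (A : Subgroup G) ⊓ T →
      (T : Subgroup G) ≤ thompsonLocal (A : Subgroup G) := by
    intro A T hlt
    refine ih _ ?_ A T (fun h => hD1' (le_bot_iff.1 (h ▸ hlt.le))) rfl
    have h1 : Nat.card D < Nat.card ((A : Subgroup G) ⊓ T : Subgroup G) :=
      lt_of_le_of_ne (card_le_of_le hlt.le) fun he => hlt.ne (eq_of_le_of_card_ge hlt.le he.ge)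
    have h2 : Nat.card ((A : Subgroup G) ⊓ T : Subgroup G) ≤ Nat.card G :=
      Nat.le_of_dvd Nat.card_pos (Subgroup.card_subgroup_dvd_card _)
    omega
  have hPN := lt_inf_normalizer hDP
  have hQN := lt_inf_normalizer hDQ
  set X := normalizer (D : Set G) with hX
  by_cases hgood : Good p X
  · obtain ⟨M, hM⟩ := exists_isPMax' p X
    obtain ⟨S, hS⟩ := hM.2.1.exists_le_sylow
    have h1 := le_of_good hgood hM inf_le_right (P.2.to_le inf_le_left)
    have h2 := le_of_good hgood hM inf_le_right (Q.2.to_le inf_le_left)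
    have e1 := thompsonLocal_eq_of_le (step P S (hPN.trans_le (le_inf inf_le_left (h1.trans hS))))
    have e2 := thompsonLocal_eq_of_le (step Q S (hQN.trans_le (le_inf inf_le_left (h2.trans hS))))
    rw [← e1, e2]
    exact le_thompsonLocal _
  · obtain ⟨S, hS⟩ := exists_thompsonLocal hm (P.2.to_le inf_le_left) hD1' le_normalizer le_rfl hgood
    obtain ⟨S1, hS1, -, he1⟩ := exists_sylow_le S (inf_le_right.trans hS)
      (P.2.to_le inf_le_left : IsPGroup p ((P : Subgroup G) ⊓ X : Subgroup G))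
    obtain ⟨S2, hS2, -, he2⟩ := exists_sylow_le S (inf_le_right.trans hS)
      (Q.2.to_le inf_le_left : IsPGroup p ((Q : Subgroup G) ⊓ X : Subgroup G))
    have e1 := thompsonLocal_eq_of_le (step P S1 (hPN.trans_le (le_inf inf_le_left hS1)))
    have e2 := thompsonLocal_eq_of_le (step Q S2 (hQN.trans_le (le_inf inf_le_left hS2)))
    rw [← e1, he1, ← he2, e2]
    exact le_thompsonLocal _

/-- All local subgroups are good. -/
theorem good_of_local {X R' : Subgroup G} (hR'p : IsPGroup p R') (hR'1 : R' ≠ ⊥)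
    (hle : R' ≤ X) (hnorm : X ≤ normalizer (R' : Set G)) : Good p X := by
  by_contra hbad
  obtain ⟨S, hS⟩ := exists_thompsonLocal hm hR'p hR'1 hle hnorm hbad
  set L := thompsonLocal (S : Subgroup G) with hL
  have hSne : (S : Subgroup G) ≠ ⊥ := by
    intro h
    obtain ⟨S', hS'⟩ := hR'p.exists_le_sylow
    obtain ⟨g, hg⟩ := MulAction.exists_smul_eq G S S'
    refine hR'1 (le_bot_iff.1 (hS'.trans ?_))
    rw [← hg, sylow_map_conj, h, Subgroup.map_bot]
  have hLbad : ¬ Good p L := fun h => hbad (good_mono h hS)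
  obtain ⟨R, -, hRp, -, hRn, hRcomm, hP⟩ := bad_structure hm (S.2.to_le (maxAb_le _))
    (maxAb_ne_bot hSne) le_normalizer le_rfl hLbad
  have hfus : Transfer.ControlsFusion L (S : Subgroup G) := by
    intro x hx g hgx
    by_cases hx1 : x = 1
    · exact ⟨1, L.one_mem, by simp [hx1]⟩
    refine ⟨g, ?_, rfl⟩
    have hne : (S : Subgroup G) ⊓ (g • S : Sylow p G) ≠ ⊥ := by
      intro h
      have : g * x * g⁻¹ ∈ (S : Subgroup G) ⊓ (g • S : Sylow p G) := ⟨hgx, x, hx, rfl⟩
      rw [h, mem_bot] at this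
      exact hx1 (by simpa using this)
    have hle' := sylow_le_thompsonLocal hm S (g • S) hne
    obtain ⟨l, hl⟩ := MulAction.exists_smul_eq L (S.subtype (le_thompsonLocal _))
      ((g • S).subtype hle')
    rw [Sylow.smul_subtype] at hl
    have hl' : (l : G) • S = g • S := Sylow.subtype_injective hl
    have hmem : (l : G)⁻¹ * g ∈ normalizer (S : Set G) := by
      rw [← Sylow.smul_eq_iff_mem_normalizer, mul_smul, ← hl', inv_smul_smul]
    have := L.mul_mem l.2 (normalizer_le_normalizer_maxAb _ hmem)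
    rwa [← mul_assoc, mul_inv_cancel, one_mul] at this
  have h := hfus.commutator_inf_sylow_eq S (le_thompsonLocal _)
  have hcomm : commutator G = ⊤ := by
    haveI := hm.simple
    rcases (inferInstance : (commutator G).Normal).eq_bot_or_eq_top with h0 | h0
    · exact absurd (Group.IsSolvable.mk ⟨1, by rw [derivedSeries_one]; exact h0⟩) hm.nsolv
    · exact h0
  rw [hcomm, top_inf_eq] at h
  have hSR : (S : Subgroup G) ≤ R := by
    intro x hx
    obtain ⟨i, hi⟩ := (IsPGroup.iff_orderOf).1 S.2 ⟨x, hx⟩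
    rw [← Subgroup.orderOf_coe] at hi
    exact hRcomm x (h.le hx).1 i hi
  have hRS : R = (S : Subgroup G) := S.is_maximal' hRp hSR
  refine hLbad fun A B hA hB hAp hBp => S.2.to_le (sup_le ?_ ?_)
  · exact le_sup_left.trans
      (S.is_maximal' (sup_isPGroup hAp S.2 (hA.trans (hRS ▸ hRn))) le_sup_right).le
  · exact le_sup_left.trans
      (S.is_maximal' (sup_isPGroup hBp S.2 (hB.trans (hRS ▸ hRn))) le_sup_right).le

/-- Distinct Sylow subgroups meet trivially. -/
theorem sylow_eq_of_inf_ne_bot : ∀ P Q : Sylow p G, (P : Subgroup G) ⊓ Q ≠ ⊥ → P = Q := by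
  suffices ∀ n, ∀ P Q : Sylow p G, (P : Subgroup G) ⊓ Q ≠ ⊥ →
      Nat.card G - Nat.card ((P : Subgroup G) ⊓ Q : Subgroup G) = n → P = Q from
    fun P Q h => this _ P Q h rfl
  intro n
  induction n using Nat.strong_induction_on with
  | _ n ih =>
  intro P Q hD1 hn
  set D := (P : Subgroup G) ⊓ Q with hD
  by_cases hPQ : (P : Subgroup G) ≤ Q
  · exact Sylow.ext (P.is_maximal' Q.2 hPQ).symm
  have hDP : D < (P : Subgroup G) :=
    lt_of_le_of_ne inf_le_left fun h => hPQ (h ▸ inf_le_right)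
  have hDQ : D < (Q : Subgroup G) :=
    lt_of_le_of_ne inf_le_right fun h => hPQ (by
      rw [Q.is_maximal' P.2 (h ▸ inf_le_left)])
  have hgood := good_of_local hm (X := normalizer (D : Set G)) (P.2.to_le inf_le_left) hD1
    le_normalizer le_rfl
  obtain ⟨M, hM⟩ := exists_isPMax' p (normalizer (D : Set G))
  obtain ⟨S, hS⟩ := hM.2.1.exists_le_sylow
  have step : ∀ A : Sylow p G, D < (A : Subgroup G) ⊓ normalizer (D : Set G) → A = S := by
    intro A hlt
    have h1 := le_of_good hgood hM inf_le_right (A.2.to_le inf_le_left)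
    have hlt2 : D < (A : Subgroup G) ⊓ S := hlt.trans_le (le_inf inf_le_left (h1.trans hS))
    refine ih _ ?_ A S (fun h => hD1 (le_bot_iff.1 (h ▸ hlt2.le))) rfl
    have h3 : Nat.card D < Nat.card ((A : Subgroup G) ⊓ S : Subgroup G) :=
      lt_of_le_of_ne (card_le_of_le hlt2.le) fun he => hlt2.ne (eq_of_le_of_card_ge hlt2.le he.ge)
    have h2 : Nat.card ((A : Subgroup G) ⊓ S : Subgroup G) ≤ Nat.card G :=
      Nat.le_of_dvd Nat.card_pos (Subgroup.card_subgroup_dvd_card _)
    omega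
  rw [step P (lt_inf_normalizer hDP), step Q (lt_inf_normalizer hDQ)]

end Local

end Cfsg.Agent.CharInd.CN
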