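import Cfsg.Agent.CharInd.CN.Count

/-!
# Groups of odd order with nilpotent centralisers are solvable
-/

namespace Cfsg.Agent.CharInd.CN

universe u

theorem isSolvable_of_isCNGroup_aux : ∀ (n : ℕ) (G : Type u) [Group G] [Finite G],
    Nat.card G = n → Odd (Nat.card G) → Cfsg.IsCNGroup G → Group.IsSolvable G := by
  intro n
  induction n using Nat.strong_induction_on with
  | _ n ih =>
  intro G _ _ hn hodd hCN
  by_contra hns
  letI := Fintype.ofFinite G
  exact not_minimal (minimal_of_smaller hCN hodd hns
    fun H _ _ hlt ho hc => ih _ (hn ▸ hlt) H rfl ho hc)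

/-- The CN theorem: groups of odd order with nilpotent centralisers are solvable. -/
theorem isSolvable_of_isCNGroup {G : Type u} [Group G] [Finite G] (hodd : Odd (Nat.card G))
    (hCN : Cfsg.IsCNGroup G) : Group.IsSolvable G :=
  isSolvable_of_isCNGroup_aux _ G rfl hodd hCN

end Cfsg.Agent.CharInd.CN
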