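import Mathlib

/-!
# The counting lemma for a Frobenius group acting on an abelian group
-/

namespace Cfsg.Agent.CharInd.CN

open Finset

variable {W : Type*} [AddCommGroup W] [Finite W] {p : ℕ} [Fact p.Prime]

theorem endPowSum_eq_zero (γ : Module.End ℤ W) {r : ℕ} (hγ : γ ^ r = 1)
    (hfree : ∀ w, γ w = w → w = 0) : ∑ j ∈ range r, γ ^ j = 0 := by
  apply LinearMap.ext
  intro w
  refine hfree _ ?_
  have h : (γ - 1) * ∑ j ∈ range r, γ ^ j = 0 := by rw [mul_geom_sum, hγ, sub_self]
  have := LinearMap.congr_fun h w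
  rw [Module.End.mul_apply, LinearMap.sub_apply, Module.End.one_apply, LinearMap.zero_apply,
    sub_eq_zero] at this
  exact this

/-- If `α` permutes the powers of a fixed-point-free `γ` of prime order `r ≠ p` regularly for
`0 < i < n`, the image of `α - 1` has order at least `p ^ (n - 1)`. -/
theorem pow_le_card_range (hW : ∀ w : W, ∃ i : ℕ, p ^ i • w = 0) [Nontrivial W]
    (α γ : Module.End ℤ W) {r n m : ℕ} (hr : r.Prime) (hrp : r ≠ p) (hα : α ^ (p ^ m) = 1)
    (hγ : γ ^ r = 1) (hfree : ∀ w, γ w = w → w = 0) (hn : 1 ≤ n)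
    (hk : ∀ i, 0 < i → i < n → ∃ k : ℕ, α ^ i * γ = γ ^ k * α ^ i ∧ k % r ≠ 1) :
    p ^ (n - 1) * Nat.card (LinearMap.ker (α - 1)) ≤ Nat.card W := by
  classical
  have hp : p.Prime := Fact.out
  set D := α - 1 with hD
  have hDn : D ^ (n - 1) ≠ 0 := by
    intro h0
    have hexp : ∑ i ∈ range n, ((n - 1).choose i : ℤ) • ((-1 : ℤ) ^ (n - 1 - i) • α ^ i) = 0 := by
      rw [← h0, hD, sub_eq_add_neg, (Commute.neg_one_right α).add_pow,
        show n - 1 + 1 = n by omega]
      refine Finset.sum_congr rfl fun i _ => ?_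
      rw [natCast_zsmul, ← (Nat.cast_commute ((n - 1).choose i) (α ^ i * (-1) ^ (n - 1 - i))).eq,
        ← nsmul_eq_mul]
      congr 1
      rw [zsmul_eq_mul, Int.cast_pow, Int.cast_neg, Int.cast_one,
        ((Commute.neg_one_left (α ^ i)).pow_left (n - 1 - i)).eq]
    have hconj : ∀ i ∈ range n,
        ∑ j ∈ range r, γ ^ j * α ^ i * γ ^ ((r - 1) * j) = if i = 0 then (r : ℤ) • 1 else 0 := by
      intro i hi
      split_ifs with h
      · subst h
        rw [Finset.sum_congr rfl (g := fun _ => (1 : Module.End ℤ W)) fun j _ => by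
          rw [pow_zero, mul_one, ← pow_add,
            show j + (r - 1) * j = r * j by
              obtain ⟨s, rfl⟩ := Nat.exists_eq_succ_of_ne_zero hr.ne_zero
              simp [Nat.succ_mul]; ring,
            pow_mul, hγ, one_pow], Finset.sum_const, Finset.card_range, natCast_zsmul]
      · obtain ⟨k, hki, hk1⟩ := hk i (Nat.pos_of_ne_zero h) (Finset.mem_range.1 hi)
        have hpow : ∀ j : ℕ, α ^ i * γ ^ j = γ ^ (k * j) * α ^ i := by
          intro j
          induction j with
          | zero => simp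
          | succ j ih =>
            rw [pow_succ, ← mul_assoc, ih, mul_assoc, hki, ← mul_assoc, ← pow_add, mul_add,
              mul_one]
        set δ := γ ^ (1 + k * (r - 1)) with hδ
        have hδr : δ ^ r = 1 := by rw [hδ, ← pow_mul, mul_comm, pow_mul, hγ, one_pow]
        have ht : ¬ r ∣ 1 + k * (r - 1) := by
          intro hd
          apply hk1
          have h1 : ((1 + k * (r - 1) : ℕ) : ZMod r) = 0 := (ZMod.natCast_eq_zero_iff _ _).2 hd
          have h2 : ((r - 1 : ℕ) : ZMod r) = -1 := by
            rw [Nat.cast_sub hr.one_le, ZMod.natCast_self, Nat.cast_one, zero_sub]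
          rw [Nat.cast_add, Nat.cast_mul, h2, Nat.cast_one, mul_neg, mul_one, ← sub_eq_add_neg,
            sub_eq_zero] at h1
          have h3 := (ZMod.natCast_eq_natCast_iff' 1 k r).1 (by rw [Nat.cast_one]; exact h1)
          rw [← h3, Nat.one_mod_eq_one.2 hr.ne_one]
        have hδfree : ∀ w, δ w = w → w = 0 := by
          intro w hw
          obtain ⟨a, -, ha⟩ := Nat.exists_mul_mod_eq_one_of_coprime
            ((hr.coprime_iff_not_dvd.2 ht).symm) hr.one_lt
          apply hfree
          have hfix : ∀ b : ℕ, (δ ^ b) w = w := by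
            intro b
            induction b with
            | zero => rfl
            | succ b ih => rw [pow_succ, Module.End.mul_apply, hw, ih]
          have : δ ^ a = γ := by
            rw [hδ, ← pow_mul, ← Nat.div_add_mod ((1 + k * (r - 1)) * a) r, pow_add, pow_mul, hγ,
              one_pow, one_mul, ha, pow_one]
          rw [← this]
          exact hfix a
        rw [Finset.sum_congr rfl (g := fun j => δ ^ j * α ^ i) fun j _ => by
          rw [mul_assoc, hpow, ← mul_assoc, ← pow_add, hδ, ← pow_mul]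
          congr 2
          ring,
          ← Finset.sum_mul, endPowSum_eq_zero δ hδr hδfree, zero_mul]
    have key : ((-1 : ℤ) ^ (n - 1) * (r : ℤ)) • (1 : Module.End ℤ W) = 0 := by
      have := congrArg (fun f : Module.End ℤ W => ∑ j ∈ range r, γ ^ j * f * γ ^ ((r - 1) * j)) hexp
      simp only [mul_zero, zero_mul, Finset.sum_const_zero, Finset.mul_sum, Finset.sum_mul,
        mul_smul_comm, smul_mul_assoc] at this
      rw [Finset.sum_comm] at this
      rw [Finset.sum_congr rfl (g := fun i => ((n - 1).choose i : ℤ) • ((-1 : ℤ) ^ (n - 1 - i) •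
        (if i = 0 then (r : ℤ) • (1 : Module.End ℤ W) else 0))) fun i hi => by
        rw [← hconj i hi, Finset.smul_sum, Finset.smul_sum], Finset.sum_eq_single 0] at this
      · simpa [smul_smul] using this
      · intro i _ hi
        simp [hi]
      · intro h
        exact absurd (Finset.mem_range.2 hn) h
    obtain ⟨w, hw⟩ := exists_ne (0 : W)
    obtain ⟨i, hi⟩ := hW w
    apply hw
    have hrw : r • w = 0 := by
      have := LinearMap.congr_fun key w
      rcases neg_one_pow_eq_or ℤ (n - 1) with h | h <;> simpa [h] using this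
    have hd : addOrderOf w ∣ 1 := by
      have h1 := addOrderOf_dvd_of_nsmul_eq_zero hrw
      have h2 := addOrderOf_dvd_of_nsmul_eq_zero hi
      have hc : r.Coprime (p ^ i) := ((Nat.coprime_primes hr hp).2 hrp).pow_right i
      exact hc ▸ Nat.dvd_gcd h1 h2
    exact AddMonoid.addOrderOf_eq_one_iff.1 (Nat.dvd_one.1 hd)
  let I : ℕ → Submodule ℤ W := fun i => LinearMap.range (D ^ i)
  have hfix : ∀ S : Submodule ℤ W, S ≠ ⊥ → (∀ w ∈ S, α w ∈ S) →
      ∃ w ∈ S, w ≠ 0 ∧ D w = 0 := by
    intro S hS hinv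
    let f : S → S := fun w => ⟨α w, hinv w w.2⟩
    have hit : ∀ (i : ℕ) (w : S), ((f^[i]) w : W) = (α ^ i) (w : W) := by
      intro i
      induction i with
      | zero => intro w; rfl
      | succ i ih => intro w; rw [Function.iterate_succ_apply, ih, pow_succ]; rfl
    let σ : Equiv.Perm S :=
      { toFun := f
        invFun := f^[p ^ m - 1]
        left_inv := fun w => by
          apply Subtype.ext
          rw [hit]
          show (α ^ (p ^ m - 1)) (α w) = w
          rw [← Module.End.mul_apply, ← pow_succ,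
            Nat.sub_add_cancel (Nat.one_le_pow _ _ hp.pos), hα, Module.End.one_apply]
        right_inv := fun w => by
          apply Subtype.ext
          show α ((f^[p ^ m - 1]) w : W) = w
          rw [hit, ← Module.End.mul_apply, ← pow_succ',
            Nat.sub_add_cancel (Nat.one_le_pow _ _ hp.pos), hα, Module.End.one_apply] }
    have hσ : σ ^ (p ^ m) = 1 := by
      ext w
      rw [Equiv.Perm.coe_pow]
      show ((f^[p ^ m]) w : W) = w
      rw [hit, hα, Module.End.one_apply]
    obtain ⟨j, -, hj⟩ := (Nat.dvd_prime_pow hp).1 (orderOf_dvd_of_pow_eq_one hσ)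
    have hG : IsPGroup p (Subgroup.zpowers σ) :=
      IsPGroup.iff_card.2 ⟨j, by rw [Nat.card_zpowers, hj]⟩
    have h0 : (0 : S) ∈ MulAction.fixedPoints (Subgroup.zpowers σ) S := by
      rintro ⟨g, hg⟩
      obtain ⟨a, rfl⟩ := Subgroup.mem_zpowers_iff.1 hg
      exact Equiv.Perm.zpow_apply_eq_self_of_apply_eq_self (Subtype.ext (map_zero α) : σ 0 = 0) a
    have hcard : p ∣ Nat.card S := by
      obtain ⟨w, hw, hw0⟩ := (Submodule.ne_bot_iff S).1 hS
      obtain ⟨i, hi⟩ := hW w
      obtain ⟨l, -, hl⟩ := (Nat.dvd_prime_pow hp).1 (addOrderOf_dvd_of_nsmul_eq_zero hi)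
      have hl0 : l ≠ 0 := by
        rintro rfl
        rw [pow_zero, AddMonoid.addOrderOf_eq_one_iff] at hl
        exact hw0 hl
      exact (dvd_pow_self p hl0).trans (hl ▸ AddSubgroup.addOrderOf_dvd_natCard S.toAddSubgroup hw)
    obtain ⟨b, hb, hne⟩ := hG.exists_fixed_point_of_prime_dvd_card_of_fixed_point S hcard h0
    refine ⟨b, b.2, fun h => hne (Subtype.ext h.symm), ?_⟩
    have := congrArg Subtype.val (hb ⟨σ, Subgroup.mem_zpowers σ⟩)
    change α (b : W) = b at this
    rw [hD, LinearMap.sub_apply, Module.End.one_apply, this, sub_self]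
  have hstep : ∀ i, I i ≠ ⊥ → p * Nat.card (I (i + 1)) ≤ Nat.card (I i) := by
    intro i hi
    let S := I i
    have hinv : ∀ w ∈ S, α w ∈ S := by
      rintro _ ⟨v, rfl⟩
      refine ⟨α v, ?_⟩
      rw [← Module.End.mul_apply, ← Module.End.mul_apply]
      congr 1
      exact (((Commute.refl α).sub_left (Commute.one_left α)).pow_left i).eq
    obtain ⟨w, hw, hw0, hDw⟩ := hfix S hi hinv
    let g : S →ₗ[ℤ] I (i + 1) :=
      { toFun := fun v => ⟨D v, by
          obtain ⟨u, hu⟩ := v.2
          exact ⟨u, by rw [pow_succ', Module.End.mul_apply, hu]⟩⟩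
        map_add' := fun a b => Subtype.ext (map_add D _ _)
        map_smul' := fun a b => Subtype.ext (map_smul D _ _) }
    have hg : Function.Surjective g.toAddMonoidHom := by
      rintro ⟨v, u, hu⟩
      exact ⟨⟨(D ^ i) u, u, rfl⟩, Subtype.ext (by
        show D ((D ^ i) u) = v
        rw [← Module.End.mul_apply, ← pow_succ', hu])⟩
    have hcard := g.toAddMonoidHom.ker.card_mul_index
    rw [AddSubgroup.index_ker, AddMonoidHom.range_eq_top.2 hg, AddSubgroup.card_top] at hcard
    rw [← hcard]
    refine Nat.mul_le_mul_right _ ?_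
    have hmem : (⟨w, hw⟩ : S) ∈ g.toAddMonoidHom.ker := Subtype.ext hDw
    have hne : (⟨w, hw⟩ : S) ≠ 0 := fun h => hw0 (congrArg Subtype.val h)
    obtain ⟨i', hi'⟩ := hW w
    obtain ⟨l, -, hl⟩ := (Nat.dvd_prime_pow hp).1 (addOrderOf_dvd_of_nsmul_eq_zero hi')
    have hl0 : l ≠ 0 := by
      rintro rfl
      rw [pow_zero, AddMonoid.addOrderOf_eq_one_iff] at hl
      exact hw0 hl
    have hd := AddSubgroup.addOrderOf_dvd_natCard _ hmem
    have e : addOrderOf (⟨w, hw⟩ : S) = addOrderOf w :=
      (addOrderOf_injective S.subtype.toAddMonoidHom Subtype.val_injective ⟨w, hw⟩).symm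
    rw [e, hl] at hd
    exact le_trans (Nat.le_self_pow hl0 p) (Nat.le_of_dvd Nat.card_pos hd)
  have hmono : ∀ i, i + 1 ≤ n - 1 → I i ≠ ⊥ := by
    intro i hi hb
    apply hDn
    rw [show n - 1 = (n - 1 - i) + i by omega, pow_add,
      show D ^ i = 0 from LinearMap.range_eq_bot.1 hb, mul_zero]
  have hIlast : I (n - 1) ≠ ⊥ := fun hb => hDn (LinearMap.range_eq_bot.1 hb)
  have hall : ∀ j, j ≤ n - 1 → p ^ j * Nat.card (I (n - 1)) ≤ Nat.card (I (n - 1 - j)) := by
    intro j
    induction j with
    | zero => simp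
    | succ j ih =>
      intro hj
      have h1 := ih (by omega)
      have h2 := hstep (n - 1 - (j + 1)) (hmono _ (by omega))
      rw [show n - 1 - (j + 1) + 1 = n - 1 - j by omega] at h2
      rw [pow_succ, mul_comm (p ^ j), mul_assoc]
      exact le_trans (Nat.mul_le_mul_left _ h1) h2
  by_cases hn1 : n = 1
  · subst hn1
    simpa using Nat.card_le_card_of_injective _ (Submodule.injective_subtype (LinearMap.ker D))
  have h1 := hall (n - 2) (by omega)
  rw [show n - 1 - (n - 2) = 1 by omega] at h1
  have hlast : p ≤ Nat.card (I (n - 1)) :=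
    le_trans (Nat.le_mul_of_pos_right p Nat.card_pos) (hstep (n - 1) hIlast)
  have h2 : p ^ (n - 1) ≤ Nat.card (I 1) := by
    refine le_trans ?_ h1
    refine le_trans ?_ (Nat.mul_le_mul_left _ hlast)
    rw [← pow_succ, show n - 2 + 1 = n - 1 by omega]
  have hk := (LinearMap.ker D).toAddSubgroup.card_mul_index
  have hidx : (LinearMap.ker D).toAddSubgroup.index = Nat.card (I 1) := by
    rw [show (LinearMap.ker D).toAddSubgroup = D.toAddMonoidHom.ker from rfl, AddSubgroup.index_ker]
    simp only [I, pow_one]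
    rfl
  rw [hidx] at hk
  rw [← hk, mul_comm]
  exact Nat.mul_le_mul_left _ h2

end Cfsg.Agent.CharInd.CN
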