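import Cfsg.Agent.CharInd.CN.Family
import Cfsg.Agent.CharInd.CN.Hall
import Cfsg.Agent.CharInd.Coherence
import Cfsg.Agent.CharInd.TI

/-!
# The exceptional characters belonging to one Hall part
-/

noncomputable section

namespace Cfsg.Agent.CharInd.CN

open scoped ComplexConjugate BigOperators
open Finset

universe u

/-- Finiteness of subgroups of finite groups. -/
def subFintype {K : Type u} [Group K] [Finite K] (L : Subgroup K) : Fintype L := Fintype.ofFinite L

attribute [local instance 2000] subFintype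

set_option maxHeartbeats 1000000

variable {G : Type u} [Group G] [Fintype G]

/-- Functions supported on the conjugates of the nontrivial elements of `H`. -/
def Supp (H : Subgroup G) (f : G → ℂ) : Prop :=
  ∀ g : G, (∀ x : G, x⁻¹ * g * x ∈ H → x⁻¹ * g * x = 1) → f g = 0

open Classical in
/-- Elements of `H` outside its derived subgroup. -/
def hdSet (H : Subgroup G) : Finset G := univ.filter fun x => x ∈ H ∧ x ∉ ⁅H, H⁆

open Classical in
/-- Nontrivial elements of the derived subgroup of `H`. -/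
def derSet (H : Subgroup G) : Finset G := univ.filter fun x => x ∈ ⁅H, H⁆ ∧ x ≠ 1

theorem mem_hdSet {H : Subgroup G} {x : G} : x ∈ hdSet H ↔ x ∈ H ∧ x ∉ ⁅H, H⁆ := by
  simp [hdSet]

theorem mem_derSet {H : Subgroup G} {x : G} : x ∈ derSet H ↔ x ∈ ⁅H, H⁆ ∧ x ≠ 1 := by
  simp [derSet]

/-- The data attached to one Hall part. -/
structure Piece (H : Subgroup G) where
  e : ℕ
  hb : ℕ
  t : ℕ
  z : Fin t
  star : Fin t → Fin t
  ε : ℤ
  Λ : Fin t → Cfsg.IrrCharacter G
  Ψ : G → ℂ
  e_pos : 0 < e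
  card_norm : Nat.card (Subgroup.normalizer (H : Set G)) = Nat.card H * e
  card_H : Nat.card H = Nat.card (⁅H, H⁆ : Subgroup G) * hb
  hb_eq : t * e + 1 = hb
  eps : ε = 1 ∨ ε = -1
  star_ne : ∀ l, star l ≠ l
  lam_inj : Function.Injective Λ
  lam_conj : ∀ l, Char.conjIrr (Λ l) = Λ (star l)
  lam_ne_one : ∀ l, Λ l ≠ Char.trivialIrr G
  lam_supp : ∀ l m, Supp H ((Λ l : G → ℂ) - (Λ m : G → ℂ))
  lam_der : ∀ l m, ∀ g ∈ ⁅H, H⁆, g ≠ 1 → (Λ l : G → ℂ) g = (Λ m : G → ℂ) g
  psi_gen : Cfsg.IsGeneralizedCharacter G Ψ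
  psi_norm : Cfsg.classInner Ψ Ψ = e + 1
  psi_triv : Cfsg.classInner Ψ (fun _ => 1) = 1
  psi_diff : ∀ l, l ≠ z → Cfsg.classInner Ψ (Λ z : G → ℂ) = Cfsg.classInner Ψ (Λ l : G → ℂ) - ε
  psi_supp : Supp H Ψ
  psi_der : ∀ g ∈ ⁅H, H⁆, Ψ g = 0
  psi_conj : (fun g => conj (Ψ g)) = Ψ + (ε : ℂ) • ((Λ z : G → ℂ) - (Λ (star z) : G → ℂ))
  hd_sum : ∀ f : G → ℂ, Cfsg.IsClassFunction G f →
    ∑ x ∈ hdSet H, f x = (e : ℂ) * Nat.card (⁅H, H⁆ : Subgroup G) *
      ∑ l, (Cfsg.classInner f Ψ + ε * (Cfsg.classInner f (Λ z : G → ℂ) -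
        Cfsg.classInner f (Λ l : G → ℂ)))
  self_bound : (Nat.card (⁅H, H⁆ : Subgroup G) : ℝ) * ((hb : ℝ) * e - (e : ℝ) ^ 2) ≤
    ∑ x ∈ hdSet H, ‖(Λ z : G → ℂ) x‖ ^ 2
  secondary : ∀ θ : H → ℂ, Cfsg.IsIrrCharacter H θ → θ 1 ≠ 1 →
    ∃ τ : G → ℂ, Cfsg.IsGeneralizedCharacter G τ ∧ τ 1 = 0 ∧ Supp H τ ∧
      Cfsg.classInner τ τ = 2 ∧ (fun g => conj (τ g)) = -τ ∧
      (∀ l, Cfsg.classInner τ ((Λ l : G → ℂ) - (Λ (star l) : G → ℂ)) = 0) ∧
      ∀ f : G → ℂ, Cfsg.IsClassFunction G f → Cfsg.classInner f τ =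
        Cfsg.classInner (fun x : H => f x) θ - Cfsg.classInner (fun x : H => f x) (fun x => conj (θ x))

theorem irr_sub_eq {A B C D : Cfsg.IrrCharacter G} (hAB : A ≠ B)
    (h : (A : G → ℂ) - (B : G → ℂ) = (C : G → ℂ) - (D : G → ℂ)) : A = C ∧ B = D := by
  classical
  have h1 := congrArg (fun f => Cfsg.classInner f (A : G → ℂ)) h
  simp only [Char.classInner_sub_left, Char.classInner_irrCharacter] at h1
  rw [if_pos True.intro, if_neg hAB.symm] at h1
  have hC : A = C := by
    by_contra hne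
    rw [if_neg (Ne.symm hne)] at h1
    split_ifs at h1 <;> norm_num at h1
  refine ⟨hC, ?_⟩
  subst hC
  exact Subtype.ext (sub_right_injective h)

/-- Sum over a subgroup of a function supported in a finite set. -/
theorem sum_subgroup_eq (M : Subgroup G) (f : G → ℂ) (u : M → ℂ) (s : Finset G)
    (hu : ∀ m : M, (m : G) ∉ s → u m = 0) :
    ∑ m : M, f m * conj (u m) = ∑ g ∈ s, f g * conj (Cfsg.extendByZero M u g) := by
  rw [Finset.sum_subset (Finset.subset_univ s) (fun g _ hg => by
    by_cases hm : g ∈ M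
    · rw [extendByZero_mem M u hm, hu ⟨g, hm⟩ hg, map_zero, mul_zero]
    · rw [extendByZero_notMem M u hm, map_zero, mul_zero])]
  rw [show (∑ g : G, f g * conj (Cfsg.extendByZero M u g)) =
    ∑ g : G, f g * Cfsg.extendByZero M (fun m => conj (u m)) g from
      Finset.sum_congr rfl fun g _ => by rw [extendByZero_conj]]
  rw [sum_mul_extendByZero]

variable {H : Subgroup G}

theorem exists_piece (hodd : Odd (Nat.card G)) (hH : IsHallPart H) : Nonempty (Piece H) := by
  classical
  set M := Subgroup.normalizer (H : Set G) with hM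
  have hHM : H ≤ M := Subgroup.le_normalizer
  set N : Subgroup M := H.subgroupOf M with hN
  haveI hNn : N.Normal := (Subgroup.normal_subgroupOf_iff_le_normalizer hHM).2 le_rfl
  have hfpf : ∀ m : M, m ∉ N → ∀ x ∈ N, m * x = x * m → x = 1 := by
    intro m hm x hx h
    exact Subtype.ext (hH.eq_one_of_commute hm hx (congrArg Subtype.val h))
  have hModd : Odd (Nat.card M) := Odd.of_dvd_nat hodd (Subgroup.card_subgroup_dvd_card M)
  have hcardN : Nat.card N = Nat.card H :=
    Nat.card_congr (Subgroup.subgroupOfEquivOfLe hHM).toEquiv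
  -- the derived subgroup
  have hcommG : (commutator N).map (M.subtype.comp N.subtype) = ⁅H, H⁆ := by
    rw [commutator_def, Subgroup.map_commutator, ← MonoidHom.range_eq_map, MonoidHom.range_comp,
      Subgroup.range_subtype, hN, Subgroup.map_subgroupOf_eq_of_le hHM]
  have hinj : Function.Injective (M.subtype.comp N.subtype) :=
    M.subtype_injective.comp N.subtype_injective
  have hmemD : ∀ x : N, x ∈ commutator N ↔ ((x : M) : G) ∈ ⁅H, H⁆ := by
    intro x
    rw [← hcommG]
    exact (Subgroup.mem_map_iff_mem hinj).symm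
  set h' := Nat.card (⁅H, H⁆ : Subgroup G) with hh'
  have hcardD : Nat.card (commutator N) = h' := by
    rw [hh', ← hcommG]
    exact Nat.card_congr ((commutator N).equivMapOfInjective _ hinj).toEquiv
  set hb := (commutator N).index with hhb
  have hcardH : Nat.card H = h' * hb := by
    rw [← hcardN, ← hcardD, hhb, Subgroup.card_mul_index]
  set e := N.index with he
  have hepos : 0 < e := Nat.pos_of_ne_zero Subgroup.index_ne_zero_of_finite
  have hcardM : Nat.card M = Nat.card H * e := by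
    rw [← hcardN, he, Subgroup.card_mul_index]
  have hcM : (Nat.card M : ℂ) = (Nat.card H : ℂ) * e := by rw [hcardM, Nat.cast_mul]
  haveI : Nontrivial N := by
    haveI : Nontrivial H := (H.bot_or_nontrivial).resolve_left hH.ne_bot
    exact (Subgroup.subgroupOfEquivOfLe hHM).toEquiv.nontrivial
  haveI : Group.IsNilpotent N := by
    haveI := hH.nil
    exact Group.nilpotent_of_surjective (Subgroup.subgroupOfEquivOfLe hHM).symm.toMonoidHom
      (Subgroup.subgroupOfEquivOfLe hHM).symm.surjective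
  haveI : Nontrivial (Abelianization N) := by
    have hlt := Group.IsSolvable.commutator_lt_top_of_nontrivial (G := N)
    obtain ⟨x, -, hx⟩ := SetLike.exists_of_lt hlt
    exact ⟨⟨Abelianization.of x, 1, fun h => hx (by
      rw [← Abelianization.ker_of]; exact h)⟩⟩
  obtain ⟨S, hSne, hSdef, hSconj, hSsum⟩ := exists_linear_family N hfpf
  obtain ⟨ζ0, hζ0⟩ := hSne
  set t := Fintype.card S with ht
  let eS : S ≃ Fin t := Fintype.equivFin S
  let ζ : Fin t → M → ℂ := fun l => (eS.symm l : M → ℂ)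
  have hζS : ∀ l, ζ l ∈ S := fun l => (eS.symm l).2
  have hζinj : Function.Injective ζ := fun a b h => eS.symm.injective (Subtype.ext h)
  let z : Fin t := eS ⟨ζ0, hζ0⟩
  let star : Fin t → Fin t := fun l => eS ⟨_, hSconj _ (hζS l)⟩
  have hζstar : ∀ l, ζ (star l) = fun g => conj (ζ l g) := fun l => by simp [ζ, star]
  choose φ hφ1 hφ using fun l => hSdef _ (hζS l)
  have hφirr := fun l => Char.isIrrCharacter_monoidHom (φ l)
  have hφne := fun l => linHom_ne_one N (hφ1 l)
  have hζirr : ∀ l, Cfsg.IsIrrCharacter M (ζ l) := fun l => by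
    rw [hφ l]; exact irr_indFun_fpf N hfpf (hφirr l) (hφne l)
  have hζcf := fun l => Char.irr_isClassFunction (hζirr l)
  have hζoff : ∀ l, ∀ m : M, m ∉ N → ζ l m = 0 := fun l m hm => by
    rw [hφ l]; exact indFun_normal_notMem N _ hm
  have hζone : ∀ l, ζ l 1 = e := fun l => by
    rw [hφ l, indFun_one_apply]; simp [he]
  have hζder : ∀ l, ∀ x : N, ((x : M) : G) ∈ ⁅H, H⁆ → ζ l (x : M) = e := by
    intro l x hx
    rw [hφ l, indFun_normal_mem]
    have hval : ∀ y : M, ((φ l ⟨y * x * y⁻¹, hNn.conj_mem x x.2 y⟩ : ℂˣ) : ℂ) = 1 := by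
      intro y
      have hmem : (⟨y * x * y⁻¹, hNn.conj_mem x x.2 y⟩ : N) ∈ commutator N := by
        have := Subgroup.Characteristic.fixed (H := commutator N) inferInstance
          (MulAut.conjNormal y : MulAut N)
        rw [← (hmemD x)] at hx
        rw [← this] at hx
        exact hx
      rw [MonoidHom.mem_ker.1 (Abelianization.commutator_subset_ker (φ l) hmem), Units.val_one]
    simp only [hval, Finset.sum_const, Finset.card_univ, nsmul_eq_mul, mul_one]
    rw [← Nat.card_eq_fintype_card, ← N.card_mul_index, Nat.cast_mul,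
      inv_mul_cancel_left₀ natCard_ne_zero, he]
  have hstar : ∀ l, star l ≠ l := by
    intro l h
    have h1 := hζstar l
    rw [h, hφ l] at h1
    rw [indFun_conj] at h1
    exact indFun_conj_ne N hfpf hModd (hφirr l) (hφne l) h1.symm
  -- sums of the family
  let P : M → ℂ := Cfsg.indFun N (fun _ => 1)
  have hPN : ∀ m : M, P m = if m ∈ N then (e : ℂ) else 0 := by
    intro m
    split_ifs with hm
    · simp only [P]
      rw [show m = ((⟨m, hm⟩ : N) : M) from rfl, indFun_normal_mem]
      simp only [Finset.sum_const, Finset.card_univ, nsmul_eq_mul, mul_one]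
      rw [← Nat.card_eq_fintype_card, ← N.card_mul_index, Nat.cast_mul,
        inv_mul_cancel_left₀ natCard_ne_zero, he]
    · exact indFun_normal_notMem N _ hm
  have hsum : ∀ x : N, ∑ l, ζ l (x : M) =
      (if ((x : M) : G) ∈ ⁅H, H⁆ then (hb : ℂ) else 0) - 1 := by
    intro x
    have h1 : ∑ l, ζ l (x : M) = ∑ w ∈ S, w (x : M) := by
      rw [← Finset.sum_coe_sort S (fun w => w (x : M))]
      exact Fintype.sum_equiv eS.symm _ _ (fun l => rfl)
    rw [h1, hSsum x]
    simp only [hmemD x, hhb]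
  have hte : t * e + 1 = hb := by
    have h1 := hsum 1
    simp only [OneMemClass.coe_one, Subgroup.one_mem, if_true, hζone, Finset.sum_const,
      Finset.card_univ, Fintype.card_fin, nsmul_eq_mul] at h1
    have : ((t * e + 1 : ℕ) : ℂ) = hb := by push_cast; rw [h1]; ring
    exact_mod_cast this
  have hPcf : Cfsg.IsClassFunction M P := indFun_isClassFunction N _
  have hres1 : ∀ {f : M → ℂ}, (∀ x : N, f (x : M) = e) → ∀ θ : N → ℂ,
      Cfsg.classInner θ (fun x : N => f x) = e * Cfsg.classInner θ (fun _ => 1) := by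
    intro f hf θ
    rw [show (fun x : N => f x) = (e : ℂ) • (fun _ : N => (1 : ℂ)) from
      funext fun x => by simp [hf x], Char.classInner_smul_right, Complex.conj_natCast]
  have hPP : Cfsg.classInner P P = e := by
    rw [show Cfsg.classInner P P = Cfsg.classInner (Cfsg.indFun N fun _ => 1) P from rfl,
      classInner_indFun_left N _ hPcf, hres1 (fun x => by rw [hPN, if_pos x.2]),
      Char.classInner_irr_self Char.isIrrCharacter_const_one, mul_one]
  have hζP : ∀ l, Cfsg.classInner (ζ l) P = 0 := fun l => by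
    rw [hφ l, classInner_indFun_left N _ hPcf, hres1 (fun x => by rw [hPN, if_pos x.2]),
      Char.classInner_irr_ne (hφirr l) Char.isIrrCharacter_const_one (hφne l), mul_zero]
  have hPζ : ∀ l, Cfsg.classInner P (ζ l) = 0 := fun l => by
    rw [← classInner_swap, hζP, map_zero]
  have hζ1 : ∀ l, Cfsg.classInner (ζ l) (fun _ => 1) = 0 := fun l => by
    rw [hφ l]; exact inner_indFun_one N (hφirr l) (hφne l)
  have hP1 : Cfsg.classInner P (fun _ => 1) = 1 := by
    rw [show Cfsg.classInner P (fun _ => 1) = Cfsg.classInner (Cfsg.indFun N fun _ => 1) (fun _ => 1) from rfl,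
      classInner_indFun_left N _ (fun _ _ => rfl),
      Char.classInner_irr_self Char.isIrrCharacter_const_one]
  have hζζ : ∀ l m, Cfsg.classInner (ζ l) (ζ m) = if l = m then 1 else 0 := fun l m => by
    split_ifs with h
    · rw [h]; exact Char.classInner_irr_self (hζirr m)
    · exact Char.classInner_irr_ne (hζirr l) (hζirr m) (fun e => h (hζinj e))
  -- the trivial intersection set
  have hTI : ∀ g : G, g ∉ M → ∀ x ∈ (H : Set G), g * x * g⁻¹ ∈ (H : Set G) → x = 1 := by
    intro g hg x hx hgx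
    by_contra hx1
    exact hg (hH.mem_normalizer hx hx1 hgx)
  have hiso : ∀ {u v : M → ℂ}, Cfsg.IsClassFunction M v → (∀ m, m ∉ N → u m = 0) →
      (∀ m, m ∉ N → v m = 0) → u 1 = 0 →
      Cfsg.classInner (Cfsg.indFun M u) (Cfsg.indFun M v) = Cfsg.classInner u v :=
    fun hv hu hv' h1 => classInner_indFun_ti M (H : Set G) hTI hv hu hv' h1
  have hsupp : ∀ {u : M → ℂ}, (∀ m, m ∉ N → u m = 0) → u 1 = 0 → Supp H (Cfsg.indFun M u) := by
    intro u hu h1 g hg
    rw [indFun_apply, Finset.sum_eq_zero, mul_zero]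
    intro x _
    by_cases hm : x⁻¹ * g * x ∈ M
    · rw [extendByZero_mem M u hm]
      by_cases hn : (⟨x⁻¹ * g * x, hm⟩ : M) ∈ N
      · rw [show (⟨x⁻¹ * g * x, hm⟩ : M) = 1 from Subtype.ext (hg x hn), h1]
      · exact hu _ hn
    · exact extendByZero_notMem M u hm
  have hval : ∀ {u : M → ℂ}, Cfsg.IsClassFunction M u → (∀ m, m ∉ N → u m = 0) →
      ∀ (g : G) (hg : g ∈ H), g ≠ 1 → Cfsg.indFun M u g = u ⟨g, hHM hg⟩ :=
    fun hu hu' g hg hg1 => indFun_ti_apply M (H : Set G) hTI hu hu' ⟨g, hHM hg⟩ hg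
      (fun h => hg1 (congrArg Subtype.val h))
  have hdoff : ∀ l m, ∀ x : M, x ∉ N → (ζ l - ζ m) x = 0 := fun l m x hx => by
    simp [hζoff l x hx, hζoff m x hx]
  have hdcf : ∀ l m, Cfsg.IsClassFunction M (ζ l - ζ m) := fun l m g k => by
    simp [hζcf l g k, hζcf m g k]
  have hdone : ∀ l m, (ζ l - ζ m) 1 = 0 := fun l m => by simp [hζone]
  have hdgen : ∀ l m, Cfsg.IsGeneralizedCharacter M (ζ l - ζ m) := fun l m =>
    genChar_sub (genChar_irr (hζirr l)) (genChar_irr (hζirr m))
  -- coherence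
  obtain ⟨εc, hεc, μ, hμirr, hμinj, hμ⟩ := coherence_gram t z
    (fun l => Cfsg.indFun M (ζ l - ζ z)) (by simp [indFun_zero])
    (fun l => genChar_indFun M (hdgen l z))
    (fun l => indFun_one_eq_zero M (hdone l z))
    (fun i j hi hj => by
      rw [hiso (hdcf j z) (hdoff i z) (hdoff j z) (hdone i z), Char.classInner_sub_left,
        Char.classInner_sub_right, Char.classInner_sub_right, hζζ, hζζ, hζζ, hζζ,
        if_neg hi, if_neg (Ne.symm hj), if_pos rfl]
      split_ifs <;> ring)
  obtain ⟨ε, hε, rfl⟩ : ∃ ε : ℤ, (ε = 1 ∨ ε = -1) ∧ (ε : ℂ) = εc := by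
    rcases hεc with h | h
    · exact ⟨1, Or.inl rfl, by simp [h]⟩
    · exact ⟨-1, Or.inr rfl, by simp [h]⟩
  have hεc' : (ε : ℂ) * ε = 1 := by rcases hε with h | h <;> simp [h]
  have hε0 : (ε : ℂ) ≠ 0 := left_ne_zero_of_mul_eq_one hεc'
  let Λ : Fin t → Cfsg.IrrCharacter G := fun l => ⟨μ l, hμirr l⟩
  have hΛinj : Function.Injective Λ := fun a b h => hμinj (congrArg Subtype.val h)
  have hind : ∀ l m, Cfsg.indFun M (ζ l - ζ m) = (ε : ℂ) • ((Λ l : G → ℂ) - (Λ m : G → ℂ)) := by
    intro l m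
    rw [show ζ l - ζ m = (ζ l - ζ z) - (ζ m - ζ z) by abel, indFun_sub, hμ l, hμ m, ← smul_sub]
    congr 1
    simp only [Λ]
    abel
  have hΛone : ∀ l, Λ l ≠ Char.trivialIrr G := by
    intro l h
    have h1 : Cfsg.classInner (Cfsg.indFun M (ζ l - ζ (star l))) (fun _ => 1) = 0 := by
      rw [classInner_indFun_left M _ (fun _ _ => rfl), Char.classInner_sub_left, hζ1, hζ1,
        sub_zero]
    rw [hind, Char.classInner_smul_left, Char.classInner_sub_left] at h1
    have h2 : (Λ l : G → ℂ) = fun _ => 1 := congrArg Subtype.val h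
    rw [show (fun _ : G => (1 : ℂ)) = (Λ l : G → ℂ) from h2.symm,
      Char.classInner_irr_self (Λ l).2, Char.classInner_irr_ne (Λ (star l)).2 (Λ l).2
        (fun e => hstar l (hΛinj (Subtype.ext e))), sub_zero, mul_one] at h1
    exact hε0 h1
  have hconj : ∀ l, Char.conjIrr (Λ l) = Λ (star l) := by
    have key : ∀ l m, l ≠ m → Char.conjIrr (Λ l) = Λ (star l) := by
      intro l m hlm
      have h1 : (fun g => conj (Cfsg.indFun M (ζ l - ζ m) g)) =
          Cfsg.indFun M (ζ (star l) - ζ (star m)) := by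
        rw [indFun_conj]
        congr 1
        funext x
        simp [hζstar]
      rw [hind, hind] at h1
      refine (irr_sub_eq (A := Char.conjIrr (Λ l)) (B := Char.conjIrr (Λ m)) (C := Λ (star l))
        (D := Λ (star m)) ?_ ?_).1
      · intro h
        exact hlm (hΛinj (by rw [← Char.conjIrr_conjIrr (Λ l), h, Char.conjIrr_conjIrr]))
      · funext g
        have := congrFun h1 g
        simp only [Pi.smul_apply, Pi.sub_apply, smul_eq_mul, map_mul, map_sub, map_intCast] at this
        exact mul_left_cancel₀ hε0 this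
    exact fun l => key l (star l) (hstar l).symm
  -- the function vanishing on the derived subgroup
  let ψ : M → ℂ := P - ζ z
  have hψoff : ∀ m : M, m ∉ N → ψ m = 0 := fun m hm => by
    simp [ψ, hPN, hm, hζoff z m hm]
  have hψcf : Cfsg.IsClassFunction M ψ := fun g k => by simp [ψ, hPcf g k, hζcf z g k]
  have hψone : ψ 1 = 0 := by simp [ψ, hPN, hζone]
  have hψgen : Cfsg.IsGeneralizedCharacter M ψ :=
    genChar_sub (genChar_of_isCharacter (isCharacter_indFun N Char.isCharacter_const_one))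
      (genChar_irr (hζirr z))
  let Ψ := Cfsg.indFun M ψ
  have hψζ : ∀ l, Cfsg.classInner ψ (ζ l) = if z = l then -1 else 0 := fun l => by
    simp only [ψ, Char.classInner_sub_left, hPζ, hζζ]
    split_ifs <;> ring
  have hψder : ∀ g ∈ ⁅H, H⁆, Ψ g = 0 := by
    intro g hg
    by_cases hg1 : g = 1
    · rw [hg1]; exact indFun_one_eq_zero M hψone
    have hgH : g ∈ H := Subgroup.commutator_le_self H hg
    rw [show Ψ g = Cfsg.indFun M ψ g from rfl, hval hψcf hψoff g hgH hg1]
    simp only [ψ, Pi.sub_apply, hPN]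
    rw [if_pos (show (⟨g, hHM hgH⟩ : M) ∈ N from hgH), hζder z ⟨⟨g, hHM hgH⟩, hgH⟩ hg, sub_self]
  have hsetM : ∀ g ∈ hdSet H, g ∈ M := fun g hg => hHM (mem_hdSet.1 hg).1
  -- inner products with the functions attached to the family
  have hfl : ∀ f : G → ℂ, Cfsg.IsClassFunction G f → ∀ l,
      Cfsg.classInner (fun m : M => f m) (P - ζ l) =
        Cfsg.classInner f Ψ + ε * (Cfsg.classInner f (Λ z : G → ℂ) -
          Cfsg.classInner f (Λ l : G → ℂ)) := by
    intro f hf l
    rw [← classInner_indFun_right M _ hf, show P - ζ l = ψ + (ζ z - ζ l) by simp [ψ],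
      indFun_add, hind, Char.classInner_add_right, Char.classInner_smul_right,
      Char.classInner_sub_right, map_intCast]
  have hzero : ∀ l, ∀ m : M, (m : G) ∉ hdSet H → (∑ k, (P - ζ k)) m = 0 ∧
      ((m : G) ∉ ⁅H, H⁆ → (P - ζ l) m = 0) := by
    intro l m hm
    by_cases hn : m ∈ N
    · have hd : (m : G) ∈ ⁅H, H⁆ := by
        by_contra hd
        exact hm (mem_hdSet.2 ⟨hn, hd⟩)
      refine ⟨?_, fun h => absurd hd h⟩
      simp only [Finset.sum_apply, Pi.sub_apply, hPN, if_pos hn, Finset.sum_sub_distrib,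
        Finset.sum_const, Finset.card_univ, Fintype.card_fin, nsmul_eq_mul,
        hζder _ ⟨m, hn⟩ hd, sub_self, mul_zero]
    · refine ⟨?_, fun _ => ?_⟩
      · rw [Finset.sum_apply]
        exact Finset.sum_eq_zero fun k _ => by simp [hPN, hn, hζoff k m hn]
      · simp [hPN, hn, hζoff l m hn]
  have hhd : ∀ f : G → ℂ, Cfsg.IsClassFunction G f →
      ∑ x ∈ hdSet H, f x = (e : ℂ) * h' *
        ∑ l, (Cfsg.classInner f Ψ + ε * (Cfsg.classInner f (Λ z : G → ℂ) -
          Cfsg.classInner f (Λ l : G → ℂ))) := by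
    intro f hf
    have h1 := classInner_congr_card (φ := fun m : M => f m) (ψ := ∑ k, (P - ζ k))
    rw [sum_subgroup_eq M f _ (hdSet H) (fun m hm => (hzero z m hm).1), classInner_sum_right,
      Finset.sum_congr rfl (fun l _ => hfl f hf l)] at h1
    have h2 : ∀ g ∈ hdSet H,
        f g * conj (Cfsg.extendByZero M (∑ k, (P - ζ k)) g) = f g * hb := by
      intro g hg
      have hgN : (⟨g, hsetM g hg⟩ : M) ∈ N := (mem_hdSet.1 hg).1
      rw [extendByZero_mem M _ (hsetM g hg)]
      simp only [Finset.sum_apply, Pi.sub_apply, hPN, if_pos hgN, Finset.sum_sub_distrib,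
        Finset.sum_const, Finset.card_univ, Fintype.card_fin, nsmul_eq_mul]
      have h3 := hsum ⟨⟨g, hsetM g hg⟩, hgN⟩
      rw [if_neg (show g ∉ ⁅H, H⁆ from (mem_hdSet.1 hg).2)] at h3
      rw [h3, ← hte]
      simp
    rw [Finset.sum_congr rfl h2, ← Finset.sum_mul, hcM, hcardH, Nat.cast_mul] at h1
    have hhb0 : (hb : ℂ) ≠ 0 := by
      rw [← hte]; exact Nat.cast_ne_zero.2 (Nat.succ_ne_zero _)
    refine mul_right_cancel₀ hhb0 ?_
    rw [← h1]
    ring
  have hpsidiff : ∀ l, l ≠ z → Cfsg.classInner Ψ (Λ z : G → ℂ) =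
      Cfsg.classInner Ψ (Λ l : G → ℂ) - ε := by
    intro l hl
    have h1 : Cfsg.classInner Ψ (Cfsg.indFun M (ζ z - ζ l)) = -1 := by
      rw [hiso (hdcf z l) hψoff (hdoff z l) hψone, Char.classInner_sub_right, hψζ, hψζ,
        if_pos rfl, if_neg (Ne.symm hl), sub_zero]
    rw [hind, Char.classInner_smul_right, map_intCast, Char.classInner_sub_right] at h1
    linear_combination (ε : ℂ) * h1 - (Cfsg.classInner Ψ (Λ z : G → ℂ) -
      Cfsg.classInner Ψ (Λ l : G → ℂ)) * hεc'
  have hpsinorm : Cfsg.classInner Ψ Ψ = e + 1 := by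
    rw [hiso hψcf hψoff hψoff hψone]
    simp only [ψ, Char.classInner_sub_left, Char.classInner_sub_right, hPP, hPζ, hζP, hζζ, if_true]
    ring
  have htpos : 2 ≤ t := by
    have := hstar z
    have h2 : Fintype.card (Fin t) ≠ 1 := fun h => this (Fintype.card_le_one_iff.1 h.le _ _)
    have := z.pos
    rw [Fintype.card_fin] at h2
    omega
  -- the bound on the exceptional character
  have hself : (h' : ℝ) * ((hb : ℝ) * e - (e : ℝ) ^ 2) ≤
      ∑ x ∈ hdSet H, ‖(Λ z : G → ℂ) x‖ ^ 2 := by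
    obtain ⟨a, ha⟩ := genChar_inner_int (genChar_indFun M hψgen) (Λ (star z)).2
    change Cfsg.classInner Ψ (Λ (star z) : G → ℂ) = a at ha
    have hz : Cfsg.classInner (Λ z : G → ℂ) Ψ = (a : ℂ) - ε := by
      rw [← classInner_swap, hpsidiff _ (hstar z), ha, map_sub, map_intCast, map_intCast]
    have hΛcf : Cfsg.IsClassFunction G (Λ z : G → ℂ) := Char.irr_isClassFunction (Λ z).2
    set ζG : G → ℂ := Cfsg.extendByZero M (ζ z) with hζG
    have hY : ∑ x ∈ hdSet H, (Λ z : G → ℂ) x = (e : ℂ) * h' * ((t : ℂ) * a - ε) := by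
      rw [hhd _ hΛcf]
      congr 1
      simp only [hz, Char.classInner_irr_self (Λ z).2, Char.classInner_irrCharacter, hΛinj.eq_iff]
      rw [Finset.sum_congr rfl (fun l _ => show ((a : ℂ) - ε + ε * (1 - if z = l then 1 else 0)) =
          (a : ℂ) - if z = l then (ε : ℂ) else 0 by split_ifs <;> ring)]
      rw [Finset.sum_sub_distrib, Finset.sum_ite_eq, Finset.sum_const, Finset.card_univ,
        Fintype.card_fin, nsmul_eq_mul, if_pos (Finset.mem_univ _)]
    have hzero' : ∀ m : M, (m : G) ∉ hdSet H → ψ m = 0 := by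
      intro m hm
      by_cases hn : m ∈ N
      · have hd : (m : G) ∈ ⁅H, H⁆ := by
          by_contra hd
          exact hm (mem_hdSet.2 ⟨hn, hd⟩)
        simp [ψ, hPN, hn, hζder z ⟨m, hn⟩ hd]
      · exact hψoff m hn
    have hX : (Nat.card H : ℂ) * e * ((a : ℂ) - ε) = (e : ℂ) * ∑ x ∈ hdSet H, (Λ z : G → ℂ) x -
        ∑ x ∈ hdSet H, (Λ z : G → ℂ) x * conj (ζG x) := by
      rw [← hz, ← hcM, show Cfsg.classInner (Λ z : G → ℂ) Ψ =
        Cfsg.classInner (fun m : M => (Λ z : G → ℂ) m) ψ from classInner_indFun_right M _ hΛcf,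
        classInner_congr_card, sum_subgroup_eq M _ _ (hdSet H) hzero', Finset.mul_sum,
        ← Finset.sum_sub_distrib]
      refine Finset.sum_congr rfl fun x hx => ?_
      rw [hζG, extendByZero_mem M _ (hsetM x hx), extendByZero_mem M _ (hsetM x hx)]
      simp only [ψ, Pi.sub_apply, hPN, map_sub]
      rw [if_pos (show (⟨x, hsetM x hx⟩ : M) ∈ N from (mem_hdSet.1 hx).1), Complex.conj_natCast]
      ring
    -- moments of `ζ z`
    let d : Finset G := Finset.univ.filter (fun x => x ∈ ⁅H, H⁆)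
    have hsplit : ∀ w : M → ℂ, (∀ m, m ∉ N → w m = 0) →
        ∑ m : M, w m = ∑ x ∈ hdSet H, Cfsg.extendByZero M w x +
          ∑ x ∈ d, Cfsg.extendByZero M w x := by
      intro w hw
      rw [← Finset.sum_union (by
        rw [Finset.disjoint_left]
        intro x hx hx'
        exact (mem_hdSet.1 hx).2 (Finset.mem_filter.1 hx').2)]
      rw [Finset.sum_subset (s₁ := hdSet H ∪ d) (f := Cfsg.extendByZero M w) (Finset.subset_univ _)
        (fun x _ hx => ?_), sum_extendByZero]
      by_cases hm : x ∈ M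
      · rw [extendByZero_mem M w hm]
        refine hw _ fun hn => hx ?_
        by_cases hd : x ∈ ⁅H, H⁆
        · exact Finset.mem_union_right _ (Finset.mem_filter.2 ⟨Finset.mem_univ _, hd⟩)
        · exact Finset.mem_union_left _ (mem_hdSet.2 ⟨hn, hd⟩)
      · exact extendByZero_notMem M w hm
    have hd' : ∀ (w : M → ℂ) (c : ℂ), (∀ x : N, ((x : M) : G) ∈ ⁅H, H⁆ → w (x : M) = c) →
        ∑ x ∈ d, Cfsg.extendByZero M w x = (h' : ℂ) * c := by
      intro w c hw
      have hdc : #d = h' := by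
        rw [hh', Nat.card_eq_fintype_card, Fintype.card_of_subtype d (fun x => by simp [d])]
      rw [Finset.sum_congr rfl (fun x hx => ?_), Finset.sum_const, nsmul_eq_mul, hdc]
      have hd := (Finset.mem_filter.1 hx).2
      have hxH : x ∈ H := Subgroup.commutator_le_self H hd
      rw [extendByZero_mem M w (hHM hxH)]
      exact hw ⟨⟨x, hHM hxH⟩, hxH⟩ hd
    have hm1 : ∑ x ∈ hdSet H, ζG x = -((h' : ℂ) * e) := by
      have h1 := classInner_congr_card (φ := ζ z) (ψ := fun _ => 1)
      rw [hζ1, mul_zero] at h1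
      simp only [map_one, mul_one] at h1
      rw [hsplit _ (hζoff z), hd' _ _ (hζder z)] at h1
      exact eq_neg_of_add_eq_zero_left h1.symm
    have hm2 : ∑ x ∈ hdSet H, ζG x * conj (ζG x) =
        (Nat.card H : ℂ) * e - (h' : ℂ) * (e : ℂ) ^ 2 := by
      have h1 := classInner_congr_card (φ := ζ z) (ψ := ζ z)
      rw [Char.classInner_irr_self (hζirr z), mul_one, hcM] at h1
      rw [hsplit (fun m => ζ z m * conj (ζ z m)) (fun m hm => by simp [hζoff z m hm]),
        hd' (fun m => ζ z m * conj (ζ z m)) ((e : ℂ) * e) (fun x hx => by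
          simp [hζder z x hx])] at h1
      rw [h1, Finset.sum_congr rfl (fun x hx => ?_)]
      · ring
      · rw [hζG, extendByZero_mem M _ (hsetM x hx), extendByZero_mem M _ (hsetM x hx)]
    set Y := ∑ x ∈ hdSet H, (Λ z : G → ℂ) x with hYdef
    set X := ∑ x ∈ hdSet H, (Λ z : G → ℂ) x * conj (ζG x) with hXdef
    have hYr : conj Y = Y := by
      rw [hY]; simp
    have hXr : conj X = X := by
      have : X = (e : ℂ) * Y - (Nat.card H : ℂ) * e * ((a : ℂ) - ε) := by rw [hX]; ring
      rw [this, map_sub, map_mul, hYr]; simp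
    have hXc : ∑ x ∈ hdSet H, ζG x * conj ((Λ z : G → ℂ) x) = X := by
      rw [← hXr, hXdef, map_sum]
      exact Finset.sum_congr rfl fun x _ => by rw [map_mul, Complex.conj_conj, mul_comm]
    have hYc : ∑ x ∈ hdSet H, conj ((Λ z : G → ℂ) x) = Y := by
      rw [← hYr, hYdef, map_sum]
    have hm1c : ∑ x ∈ hdSet H, conj (ζG x) = -((h' : ℂ) * e) := by
      rw [← map_sum, hm1]; simp
    have hcardhd : (#(hdSet H) : ℂ) = (Nat.card H : ℂ) - h' := by
      have h1 := hsplit (fun m => if m ∈ N then 1 else 0) (fun m hm => if_neg hm)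
      rw [hd' _ 1 (fun x _ => if_pos x.2)] at h1
      rw [Finset.sum_congr rfl (fun x hx => show
        Cfsg.extendByZero M (fun m => if m ∈ N then (1 : ℂ) else 0) x = 1 by
          rw [extendByZero_mem M _ (hsetM x hx), if_pos]
          exact (mem_hdSet.1 hx).1), Finset.sum_const, nsmul_one, Finset.sum_boole] at h1
      rw [← hcardN, Nat.card_eq_fintype_card,
        Fintype.card_of_subtype (Finset.univ.filter fun m : M => m ∈ N) (fun x => by simp)]
      rw [h1]; ring
    let v : G → ℂ := fun x => (ε : ℂ) * ζG x + a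
    have hexp : ∑ x ∈ hdSet H, ((Λ z : G → ℂ) x - v x) * conj ((Λ z : G → ℂ) x - v x) =
        ∑ x ∈ hdSet H, (Λ z : G → ℂ) x * conj ((Λ z : G → ℂ) x) -
          ((h' : ℂ) * ((hb : ℂ) * e - (e : ℂ) ^ 2 + e * ((t : ℂ) * a ^ 2 - 2 * ε * a))) := by
      have hterm : ∀ x, ((Λ z : G → ℂ) x - v x) * conj ((Λ z : G → ℂ) x - v x) =
          (Λ z : G → ℂ) x * conj ((Λ z : G → ℂ) x) - ε * ((Λ z : G → ℂ) x * conj (ζG x)) -
          a * (Λ z : G → ℂ) x - ε * (ζG x * conj ((Λ z : G → ℂ) x)) -
          a * conj ((Λ z : G → ℂ) x) + (ε * ε) * (ζG x * conj (ζG x)) + ε * a * ζG x +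
          ε * a * conj (ζG x) + a * a := by
        intro x
        simp only [v, map_sub, map_add, map_mul, map_intCast]
        ring
      simp only [hterm, Finset.sum_add_distrib, Finset.sum_sub_distrib, ← Finset.mul_sum,
        Finset.sum_const, nsmul_eq_mul]
      rw [← hYdef, ← hXdef, hXc, hYc, hm1, hm1c, hm2, hcardhd, hεc']
      have hXv : X = (e : ℂ) * Y - (Nat.card H : ℂ) * e * ((a : ℂ) - ε) := by rw [hX]; ring
      rw [hXv, hY, hcardH, ← hte]
      push_cast
      linear_combination ((2 : ℂ) * e * e * h' - 2 * h' * ((t : ℂ) * e + 1) * e) * hεc'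
    have hre := congrArg Complex.re hexp
    simp only [Complex.re_sum, Complex.mul_conj, Complex.ofReal_re, Complex.sub_re,
      Complex.normSq_eq_norm_sq] at hre
    have hpos : 0 ≤ ∑ x ∈ hdSet H, ‖(Λ z : G → ℂ) x - v x‖ ^ 2 :=
      Finset.sum_nonneg fun x _ => sq_nonneg _
    have hq : (0 : ℤ) ≤ t * a ^ 2 - 2 * ε * a := by
      have h2 : (2 : ℤ) ≤ t := by exact_mod_cast htpos
      have h3 : -(a * a) ≤ a ∧ a ≤ a * a := by
        constructor <;> rcases le_or_gt a 0 with h | h <;> nlinarith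
      rcases hε with h | h <;> subst h <;> nlinarith
    have hq' : (0 : ℝ) ≤ (e : ℝ) * ((t : ℝ) * (a : ℝ) ^ 2 - 2 * (ε : ℝ) * a) :=
      mul_nonneg (Nat.cast_nonneg e) (by exact_mod_cast hq)
    have hcast : ((h' : ℂ) * ((hb : ℂ) * e - (e : ℂ) ^ 2 +
        e * ((t : ℂ) * (a : ℂ) ^ 2 - 2 * ε * a))).re = (h' : ℝ) * ((hb : ℝ) * e - (e : ℝ) ^ 2 +
        e * ((t : ℝ) * (a : ℝ) ^ 2 - 2 * ε * a)) := by
      rw [← Complex.ofReal_re ((h' : ℝ) * _)]
      push_cast
      rfl
    rw [hcast] at hre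
    have hh0 : (0 : ℝ) ≤ h' := Nat.cast_nonneg _
    nlinarith [mul_nonneg hh0 hq']
  refine ⟨{
    e := e, hb := hb, t := t, z := z, star := star, ε := ε, Λ := Λ, Ψ := Ψ
    e_pos := hepos
    card_norm := hcardM
    card_H := hcardH
    hb_eq := hte
    eps := hε
    star_ne := hstar
    lam_inj := hΛinj
    lam_conj := hconj
    lam_ne_one := hΛone
    lam_supp := ?_
    lam_der := ?_
    psi_gen := genChar_indFun M hψgen
    psi_norm := hpsinorm
    psi_triv := ?_
    psi_diff := hpsidiff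
    psi_supp := hsupp hψoff hψone
    psi_der := hψder
    psi_conj := ?_
    hd_sum := hhd
    self_bound := hself
    secondary := ?_ }⟩
  · intro l m g hg
    have h := hsupp (hdoff l m) (hdone l m) g hg
    rw [hind, Pi.smul_apply, smul_eq_mul] at h
    exact (mul_eq_zero.1 h).resolve_left hε0
  · intro l m g hg hg1
    have hgH : g ∈ H := Subgroup.commutator_le_self H hg
    have h := hval (hdcf l m) (hdoff l m) g hgH hg1
    rw [hind, Pi.smul_apply, smul_eq_mul, Pi.sub_apply] at h
    have h0 : ∀ l, ζ l ⟨g, hHM hgH⟩ = e := fun l => hζder l ⟨⟨g, hHM hgH⟩, hgH⟩ hg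
    rw [Pi.sub_apply, h0, h0, sub_self] at h
    exact sub_eq_zero.1 ((mul_eq_zero.1 h).resolve_left hε0)
  · rw [classInner_indFun_left M _ (fun _ _ => rfl)]
    simp only [ψ, Char.classInner_sub_left, hP1, hζ1, sub_zero]
  · rw [indFun_conj, ← hind, ← indFun_add]
    congr 1
    funext x
    simp only [ψ, Pi.add_apply, Pi.sub_apply, map_sub, hζstar, hPN]
    split_ifs <;> simp <;> ring
  · intro θ hθ hθdeg
    let eq : N ≃* H := Subgroup.subgroupOfEquivOfLe hHM
    let θN : N → ℂ := fun x => θ (eq x)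
    have hθN : Cfsg.IsIrrCharacter N θN := Char.isIrrCharacter_comp_mulEquiv hθ eq
    have hθN1 : θN ≠ fun _ => 1 := fun h => hθdeg (by
      have := congrFun h 1
      simpa [θN] using this)
    have hθc : Cfsg.IsIrrCharacter N (fun x => conj (θN x)) := Char.isIrrCharacter_conjFun hθN
    have hθc1 : (fun x => conj (θN x)) ≠ fun _ => 1 := fun h => hθN1 (funext fun x => by
      have := congrArg conj (congrFun h x)
      simpa using this)
    let A := Cfsg.indFun N θN
    let A' := Cfsg.indFun N (fun x => conj (θN x))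
    have hA := irr_indFun_fpf N hfpf hθN hθN1
    have hA' := irr_indFun_fpf N hfpf hθc hθc1
    have hne : A' ≠ A := indFun_conj_ne N hfpf hModd hθN hθN1
    have hAoff : ∀ m : M, m ∉ N → (A - A') m = 0 := fun m hm => by
      simp [A, A', indFun_normal_notMem N _ hm]
    have hAcf : Cfsg.IsClassFunction M (A - A') := fun g k => by
      simp [A, A', indFun_isClassFunction N θN g k, indFun_isClassFunction N (fun x => conj (θN x)) g k]
    have hA1 : (A - A') 1 = 0 := by
      obtain ⟨n, -, hn⟩ := Char.irr_one_pos hθN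
      simp [A, A', indFun_one_apply, hn]
    refine ⟨Cfsg.indFun M (A - A'), genChar_indFun M (genChar_sub (genChar_irr hA) (genChar_irr hA')),
      indFun_one_eq_zero M hA1, hsupp hAoff hA1, ?_, ?_, ?_, ?_⟩
    · rw [hiso hAcf hAoff hAoff hA1, Char.classInner_sub_left, Char.classInner_sub_right,
        Char.classInner_sub_right, Char.classInner_irr_self hA, Char.classInner_irr_self hA',
        Char.classInner_irr_ne hA hA' hne.symm, Char.classInner_irr_ne hA' hA hne]
      ring
    · rw [indFun_conj, ← indFun_neg]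
      congr 1
      funext x
      simp only [Pi.sub_apply, Pi.neg_apply, map_sub, A, A']
      rw [show conj (Cfsg.indFun N θN x) = Cfsg.indFun N (fun y => conj (θN y)) x from
          congrFun (indFun_conj N θN) x,
        show conj (Cfsg.indFun N (fun y => conj (θN y)) x) = Cfsg.indFun N θN x by
          rw [← congrFun (indFun_conj N θN) x, Complex.conj_conj]]
      ring
    · intro l
      have h1 : Cfsg.classInner (Cfsg.indFun M (A - A')) (Cfsg.indFun M (ζ l - ζ (star l))) = 0 := by
        obtain ⟨n, -, hn⟩ := Char.irr_one_pos hθN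
        have hn1 : n ≠ 1 := fun h => hθdeg (by
          rw [← Nat.cast_one, ← h, ← hn]; simp [θN])
        have hdeg : ∀ k, A ≠ ζ k ∧ A' ≠ ζ k := fun k => by
          constructor <;> intro h <;> apply hn1 <;> have h3 := congrFun h 1 <;>
            simp only [A, A', indFun_one_apply, hn, hζone, Complex.conj_natCast] at h3 <;>
            exact_mod_cast mul_left_cancel₀ (Nat.cast_ne_zero.2 hepos.ne')
              (h3.trans (mul_one (e : ℂ)).symm)
        rw [hiso (hdcf l (star l)) hAoff (hdoff l (star l)) hA1, Char.classInner_sub_left,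
          Char.classInner_sub_right, Char.classInner_sub_right,
          Char.classInner_irr_ne hA (hζirr _) (hdeg l).1, Char.classInner_irr_ne hA (hζirr _) (hdeg _).1,
          Char.classInner_irr_ne hA' (hζirr _) (hdeg l).2, Char.classInner_irr_ne hA' (hζirr _) (hdeg _).2]
        ring
      rw [hind, Char.classInner_smul_right, map_intCast] at h1
      exact (mul_eq_zero.1 h1).resolve_left hε0
    · intro f hf
      have key : ∀ w : H → ℂ, Cfsg.classInner (fun m : M => f m) (Cfsg.indFun N (fun x => w (eq x))) =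
          Cfsg.classInner (fun x : H => f x) w := by
        intro w
        rw [classInner_indFun_right N _ (show Cfsg.IsClassFunction M (fun m : M => f m) from
          fun g k => hf g k)]
        unfold Cfsg.classInner
        rw [hcardN]
        congr 1
        exact Fintype.sum_equiv eq.toEquiv _ _ (fun x => rfl)
      rw [classInner_indFun_right M _ hf, Char.classInner_sub_right, key θ,
        key (fun x => conj (θ x))]

end Cfsg.Agent.CharInd.CN
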