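import Cfsg.Agent.CharInd.CN.ThreeStep2
import Mathlib.GroupTheory.SpecificGroups.ZGroup

/-!
# A minimal nonsolvable group of odd order with nilpotent centralisers is simple
-/

namespace Cfsg.Agent.CharInd.CN

open Subgroup

universe u

variable {G : Type u} [Group G] [Finite G]

/-- If the centre is nontrivial a group with nilpotent centralisers is nilpotent. -/
theorem isNilpotent_of_central (hCN : Cfsg.IsCNGroup G) {z : G} (hz : z ≠ 1)
    (hc : ∀ g : G, g * z = z * g) : Group.IsNilpotent G := by
  haveI := hCN z hz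
  exact Group.nilpotent_of_surjective (centralizer ({z} : Set G)).subtype
    (fun g => ⟨⟨g, mem_centralizer_singleton_iff.2 (hc g)⟩, rfl⟩)

/-- Without self-centralising `p`-core there is a second core. -/
theorem exists_other_core (hCN : Cfsg.IsCNGroup G) {p : ℕ} [hp : Fact p.Prime]
    (hR1 : Cfsg.pCore p G ≠ ⊥)
    (hC : ¬ centralizer (Cfsg.pCore p G : Set G) ≤ Cfsg.pCore p G) :
    ∃ q : ℕ, q.Prime ∧ q ≠ p ∧ Cfsg.pCore q G ≠ ⊥ := by
  set R := Cfsg.pCore p G with hR
  set C := centralizer (R : Set G) with hC'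
  obtain ⟨z, hz, hz1⟩ := (bot_or_exists_ne_one R).resolve_left hR1
  haveI := hCN z hz1
  have hCnil : Group.IsNilpotent C := by
    have hle : C ≤ centralizer ({z} : Set G) := centralizer_le (Set.singleton_subset_iff.2 hz)
    exact Group.nilpotent_of_surjective
      (subgroupOfEquivOfLe hle).toMonoidHom (subgroupOfEquivOfLe hle).surjective
  have hCn : C.Normal := by
    rw [hC']; exact normal_centralizer
  have hCF : C ≤ Cfsg.fittingSubgroup G := Cores.le_fittingSubgroup hCn hCnil
  have hnp : ¬ IsPGroup p C := fun h => hC (Cores.le_pCore hCn h)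
  rw [IsPGroup.iff_card] at hnp
  obtain ⟨q, hq, hqd, hqp⟩ : ∃ q : ℕ, q.Prime ∧ q ∣ Nat.card C ∧ q ≠ p := by
    by_contra h
    push Not at h
    exact hnp ⟨_, Nat.eq_prime_pow_of_unique_prime_dvd Nat.card_pos.ne' (fun {d} hd hdd => h d hd hdd)⟩
  haveI : Fact q.Prime := ⟨hq⟩
  obtain ⟨x, hx⟩ := exists_prime_orderOf_dvd_card' (G := C) q hqd
  refine ⟨q, hq, hqp, fun hbot => ?_⟩
  have := eq_one_of_mem_fitting hbot (hCF x.2) (i := 1)
    (by rw [pow_one, Subgroup.orderOf_coe, hx])
  rw [OneMemClass.coe_eq_one] at this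
  rw [this, orderOf_one] at hx
  exact hq.one_lt.ne hx

/-- With two nontrivial cores everything is good. -/
theorem good_top_of_two_cores (hCN : Cfsg.IsCNGroup G) {p q : ℕ} [hp : Fact p.Prime] (hq : q.Prime)
    (hqp : q ≠ p) (h1 : Cfsg.pCore p G ≠ ⊥) (h2 : Cfsg.pCore q G ≠ ⊥) :
    Good p (⊤ : Subgroup G) := by
  haveI : Fact q.Prime := ⟨hq⟩
  refine good_of_two_cores hCN (R := Cfsg.pCore p G) (S := Cfsg.pCore q G) le_top
    Cores.pCore_isPGroup h1 (by rw [normalizer_eq_top]) le_top h2 (by rw [normalizer_eq_top]) ?_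
  obtain ⟨k, hk⟩ := IsPGroup.iff_card.1 (Cores.pCore_isPGroup (p := q) (G := G))
  rw [hk]
  exact ((Nat.coprime_primes hq hp.out).2 hqp).pow_left k

/-- A group whose `p`-subgroups are good has a normal Sylow `p`-subgroup. -/
theorem sylow_le_pCore_of_good {p : ℕ} [hp : Fact p.Prime] (h : Good p (⊤ : Subgroup G))
    (P : Sylow p G) : (P : Subgroup G) ≤ Cfsg.pCore p G := by
  refine Cores.le_pCore ⟨fun a ha g => ?_⟩ P.2
  have hmax : IsPMax p ⊤ (P : Subgroup G) := ⟨le_top, P.2, fun A _ hA hPA => P.is_maximal' hA hPA⟩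
  exact (mem_normalizer_iff.1 (normalizes_of_good h hmax (mem_top g)) a).1 ha

/-- A group of odd order with nilpotent centralisers and two nontrivial cores is solvable. -/
theorem isSolvable_of_two_cores (hCN : Cfsg.IsCNGroup G) (hodd : Odd (Nat.card G)) {p q : ℕ}
    [hp : Fact p.Prime] (hq : q.Prime) (hqp : q ≠ p) (h1 : Cfsg.pCore p G ≠ ⊥)
    (h2 : Cfsg.pCore q G ≠ ⊥) : Group.IsSolvable G := by
  set F := Cfsg.fittingSubgroup G with hF
  haveI : Group.IsNilpotent F := Cores.fittingSubgroup_isNilpotent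
  suffices IsZGroup (G ⧸ F) from Group.isSolvable_of_ker_le_range F.subtype (QuotientGroup.mk' F)
    (by simp)
  rw [isZGroup_iff]
  intro r hr P
  haveI : Fact r.Prime := ⟨hr⟩
  obtain ⟨Q, rfl⟩ := Sylow.mapSurjective_surjective (QuotientGroup.mk'_surjective F) r P
  by_cases hr0 : Cfsg.pCore r G = ⊥
  · -- fixed-point-free action on the `p`-core
    have hrp : r ≠ p := by
      intro h
      apply h1
      subst h
      exact hr0
    have hr2 : Q.toSubgroup = ⊥ ∨ r ≠ 2 := by
      by_cases hQ : Q.toSubgroup = ⊥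
      · exact Or.inl hQ
      · refine Or.inr ?_
        rintro rfl
        obtain ⟨k, hk⟩ := IsPGroup.iff_card.1 Q.2
        have hk0 : k ≠ 0 := by
          rintro rfl
          exact hQ (Subgroup.card_eq_one.1 (by rw [hk, pow_zero]))
        exact Nat.not_odd_iff_even.2 (even_iff_two_dvd.2
          ((dvd_pow_self 2 hk0).trans (hk.symm.dvd.trans (Subgroup.card_subgroup_dvd_card _)))) hodd
    have hQc : IsCyclic Q := by
      rcases hr2 with hb | hr2
      · haveI : Subsingleton Q := ⟨fun a b =>
          Subtype.ext ((mem_bot.1 (hb.le a.2)).trans (mem_bot.1 (hb.le b.2)).symm)⟩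
        exact isCyclic_of_subsingleton
      set R := Cfsg.pCore p G with hR
      have hRp : IsPGroup p R := Cores.pCore_isPGroup
      obtain ⟨z0, hz0, hz01, hfix⟩ := exists_fixed hRp hRp h1 le_normalizer
      have hfpf : ∀ x ∈ Q.toSubgroup, x ≠ 1 → R ⊓ centralizer {x} = ⊥ := by
        intro x hx hx1
        rw [eq_bot_iff]
        rintro z ⟨hz, hzx⟩
        rw [mem_bot]
        by_contra hz1
        obtain ⟨i, hi⟩ := (IsPGroup.iff_orderOf).1 Q.2 ⟨x, hx⟩
        rw [← Subgroup.orderOf_coe] at hi
        have hxcop : (orderOf x).Coprime p := by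
          rw [show orderOf x = r ^ i from hi]
          exact ((Nat.coprime_primes hr hp.out).2 hrp).pow_left i
        obtain ⟨j, hj⟩ := (IsPGroup.iff_orderOf).1 hRp ⟨z0, hz0⟩
        rw [← Subgroup.orderOf_coe] at hj
        have hxz0 : x * z0 = z0 * x := commute_of_common hCN hz1
          (mem_centralizer_singleton_iff.1 hzx).symm (hfix z hz).symm
          (coprime_of_orderOf_pow hj hxcop)
        have hxC : x ∈ centralizer (R : Set G) :=
          mem_centralizer_of_common hCN hRp hz01 hfix hxz0 hxcop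
        haveI := hCN z0 hz01
        have hnil : Group.IsNilpotent (centralizer (R : Set G)) := by
          have hle : centralizer (R : Set G) ≤ centralizer ({z0} : Set G) :=
            centralizer_le (Set.singleton_subset_iff.2 hz0)
          exact Group.nilpotent_of_surjective
            (subgroupOfEquivOfLe hle).toMonoidHom (subgroupOfEquivOfLe hle).surjective
        exact hx1 (eq_one_of_mem_fitting hr0
          (Cores.le_fittingSubgroup normal_centralizer hnil hxC) hi)
      obtain ⟨S⟩ : Nonempty (Sylow r Q.toSubgroup) := inferInstance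
      have hStop : (S : Subgroup Q.toSubgroup) = ⊤ := (S.is_maximal' (Q.2.to_subgroup ⊤) le_top).symm
      rcases FrobeniusCompl.sylow_cyclic_or_quaternion (K := R) (H := Q.toSubgroup)
        (fun x _ => by rw [normalizer_eq_top]; exact mem_top x) h1 hfpf S with h | ⟨h, -⟩
      · exact isCyclic_of_surjective ((S : Subgroup Q.toSubgroup).subtype)
          (fun x => ⟨⟨x, hStop ▸ mem_top x⟩, rfl⟩)
      · exact absurd h hr2
    exact isCyclic_of_surjective _ ((QuotientGroup.mk' F).subgroupMap_surjective Q.toSubgroup)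
  · -- the Sylow subgroup lies in the Fitting subgroup
    have hQF : Q.toSubgroup ≤ F := by
      refine le_trans ?_ (Cores.pCore_le_fittingSubgroup (p := r))
      rcases eq_or_ne r p with hrp | hrp
      · subst hrp
        exact sylow_le_pCore_of_good (good_top_of_two_cores hCN hq hqp hr0 h2) Q
      · exact sylow_le_pCore_of_good (good_top_of_two_cores hCN hp.out hrp.symm hr0 h1) Q
    have : Q.toSubgroup.map (QuotientGroup.mk' F) = ⊥ := by
      rw [Subgroup.map_eq_bot_iff, QuotientGroup.ker_mk']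
      exact hQF
    haveI : Subsingleton (Q.toSubgroup.map (QuotientGroup.mk' F)) := ⟨fun a b =>
      Subtype.ext ((mem_bot.1 (this.le a.2)).trans (mem_bot.1 (this.le b.2)).symm)⟩
    exact (isCyclic_of_subsingleton : IsCyclic (Q.toSubgroup.map (QuotientGroup.mk' F)))

/-- The hypotheses on a minimal counterexample. -/
structure Minimal (G : Type u) [Group G] : Prop where
  simple : IsSimpleGroup G
  odd : Odd (Nat.card G)
  cn : Cfsg.IsCNGroup G
  nsolv : ¬ Group.IsSolvable G
  sub : ∀ H : Subgroup G, H ≠ ⊤ → Group.IsSolvable H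

/-- A nonsolvable group all of whose smaller groups are solvable is simple. -/
theorem minimal_of_smaller (hCN : Cfsg.IsCNGroup G) (hodd : Odd (Nat.card G))
    (hns : ¬ Group.IsSolvable G)
    (ih : ∀ (H : Type u) [Group H] [Finite H], Nat.card H < Nat.card G → Odd (Nat.card H) →
      Cfsg.IsCNGroup H → Group.IsSolvable H) : Minimal G := by
  have hsub : ∀ H : Subgroup G, H ≠ ⊤ → Group.IsSolvable H := fun H hH =>
    ih H (lt_of_le_of_ne (Nat.le_of_dvd Nat.card_pos (Subgroup.card_subgroup_dvd_card H))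
      (fun e => hH (eq_top_of_card_eq H e))) (Odd.of_dvd_nat hodd (Subgroup.card_subgroup_dvd_card H))
      (isCNGroup_subgroup hCN H)
  refine ⟨?_, hodd, hCN, hns, hsub⟩
  haveI : Nontrivial G := by
    by_contra h
    rw [not_nontrivial_iff_subsingleton] at h
    exact hns inferInstance
  refine ⟨fun N hN => ?_⟩
  by_contra hcon
  push Not at hcon
  obtain ⟨hNb, hNt⟩ := hcon
  haveI := hsub N hNt
  haveI : Nontrivial N := (N.bot_or_nontrivial).resolve_left hNb
  have hF : Cfsg.fittingSubgroup G ≠ ⊥ := fun h => centralizer_ne_bot_of_fitting (G := N) (by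
    have := Cores.map_subtype_fittingSubgroup_le (N := N)
    rw [h, le_bot_iff] at this
    exact (map_eq_bot_iff_of_injective _ N.subtype_injective).1 this)
  rw [Cores.fittingSubgroup_eq_iSup_pCore] at hF
  simp only [ne_eq, iSup_eq_bot, not_forall] at hF
  obtain ⟨⟨p, hp⟩, hpne⟩ := hF
  haveI : Fact p.Prime := ⟨hp⟩
  by_cases hC : centralizer (Cfsg.pCore p G : Set G) ≤ Cfsg.pCore p G
  · haveI : Group.IsSolvable (Cfsg.pCore p G) := by
      haveI := (Cores.pCore_isPGroup (p := p) (G := G)).isNilpotent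
      infer_instance
    haveI : Group.IsSolvable (G ⧸ Cfsg.pCore p G) := by
      refine ih _ ?_ ?_ (quotient_isCNGroup hCN _ Cores.pCore_isPGroup hpne hC)
      · rw [← Subgroup.index, ← Subgroup.card_mul_index (Cfsg.pCore p G)]
        refine lt_mul_of_one_lt_left ?_ ?_
        · exact Nat.pos_of_ne_zero index_ne_zero_of_finite
        · rw [← not_le]
          intro h
          exact hpne (eq_bot_of_card_le _ h)
      · exact Odd.of_dvd_nat hodd (Subgroup.card_quotient_dvd_card _)
    exact hns ((Group.isSolvable_iff_subgroup_quotient (Cfsg.pCore p G)).2 ⟨‹_›, ‹_›⟩)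
  · obtain ⟨q, hq, hqp, hqne⟩ := exists_other_core hCN hpne hC
    exact hns (isSolvable_of_two_cores hCN hodd hq hqp hpne hqne)

end Cfsg.Agent.CharInd.CN
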