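import Cfsg.Agent.CharInd.CN.Good
import Cfsg.Agent.CharInd.CN.Module
import Cfsg.Agent.Lib.FrobeniusComplement

/-!
# Groups with nilpotent centralisers and a self-centralising normal p-subgroup
-/

namespace Cfsg.Agent.CharInd.CN

open Subgroup

universe u

variable {G : Type u} [Group G] [Finite G] {p : ℕ} [hp : Fact p.Prime]
  (hCN : Cfsg.IsCNGroup G) (R : Subgroup G) [hRn : R.Normal] (hRp : IsPGroup p R) (hR1 : R ≠ ⊥)
  (hC : centralizer (R : Set G) ≤ R)

include hCN hRp hR1 hC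

/-- `p'`-elements act without fixed points. -/
theorem eq_one_of_commute_core {x r : G} (hx : (orderOf x).Coprime p) (hr : r ∈ R) (hr1 : r ≠ 1)
    (h : x * r = r * x) : x = 1 := by
  obtain ⟨z, hz, hz1, hzfix⟩ := exists_fixed hRp hRp hR1 le_normalizer
  obtain ⟨i, hi⟩ := (IsPGroup.iff_orderOf).1 hRp ⟨z, hz⟩
  rw [← Subgroup.orderOf_coe] at hi
  have hxz : x * z = z * x := commute_of_common hCN hr1 h (hzfix r hr).symm
    (coprime_of_orderOf_pow (y := z) hi hx)
  have hxR : x ∈ R := hC (mem_centralizer_of_common hCN hRp hz1 hzfix hxz hx)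
  obtain ⟨j, hj⟩ := (IsPGroup.iff_orderOf).1 hRp ⟨x, hxR⟩
  rw [← Subgroup.orderOf_coe] at hj
  have hj' : orderOf x = p ^ j := hj
  rw [← orderOf_eq_one_iff]
  exact Nat.eq_one_of_dvd_coprimes (hx.pow_right j) dvd_rfl (hj' ▸ dvd_rfl)

/-- `p`-elements and `p'`-elements do not commute. -/
theorem eq_one_of_commute_elem {u x : G} {i : ℕ} (hu : orderOf u = p ^ i)
    (hx : (orderOf x).Coprime p) (hx1 : x ≠ 1) (h : x * u = u * x) : u = 1 := by
  by_contra hu1
  obtain ⟨r, hr, hr1, hxr⟩ := exists_common hCN hRp hR1 hu1 hu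
    (by rw [normalizer_eq_top]; exact mem_top _) h hx
  exact hx1 (eq_one_of_commute_core hCN R hRp hR1 hC hx hr hr1 hxr)

/-- A conjugate of a `p'`-element in its coset of `R` is a conjugate by an element of `R`. -/
theorem exists_conj_coset {x y : G} (hx : (orderOf x).Coprime p) (hx1 : x ≠ 1)
    (hy : x⁻¹ * y ∈ R) : ∃ r ∈ R, r * x * r⁻¹ = y := by
  let f : R → R := fun r => ⟨x⁻¹ * ((r : G) * x * (r : G)⁻¹), by
    have h1 : x⁻¹ * (r : G) * x ∈ R := by simpa using hRn.conj_mem _ r.2 x⁻¹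
    have := R.mul_mem h1 (R.inv_mem r.2)
    simpa [mul_assoc] using this⟩
  have hinj : Function.Injective f := by
    intro a b e
    have e' : (a : G) * x * (a : G)⁻¹ = b * x * (b : G)⁻¹ :=
      mul_left_cancel (congrArg Subtype.val e)
    have hc : x * ((b : G)⁻¹ * a) = (b : G)⁻¹ * a * x := by
      calc x * ((b : G)⁻¹ * a) = (b : G)⁻¹ * ((b : G) * x * (b : G)⁻¹) * a := by group
        _ = (b : G)⁻¹ * ((a : G) * x * (a : G)⁻¹) * a := by rw [e']
        _ = (b : G)⁻¹ * a * x := by group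
    by_contra hne
    refine hx1 (eq_one_of_commute_core hCN R hRp hR1 hC hx (R.mul_mem (R.inv_mem b.2) a.2) ?_ hc)
    exact fun h => hne (Subtype.ext (inv_mul_eq_one.1 h).symm)
  obtain ⟨r, hr⟩ := Finite.injective_iff_surjective.1 hinj ⟨_, hy⟩
  exact ⟨r, r.2, mul_left_cancel (congrArg Subtype.val hr)⟩

/-- Modulo `R`, `p`-elements and `p'`-elements do not commute. -/
theorem mem_core_of_commute_mod {u x : G} {i : ℕ} (hu : orderOf u = p ^ i)
    (hx : (orderOf x).Coprime p) (hx1 : x ≠ 1) (h : x⁻¹ * (u * x * u⁻¹) ∈ R) : u ∈ R := by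
  obtain ⟨r, hr, he⟩ := exists_conj_coset hCN R hRp hR1 hC hx hx1 h
  by_contra huR
  have hmem : r⁻¹ * u ∈ (zpowers u ⊔ R : Subgroup G) :=
    Subgroup.mul_mem _ ((le_sup_right : R ≤ zpowers u ⊔ R) (R.inv_mem hr))
      ((le_sup_left : zpowers u ≤ zpowers u ⊔ R) (mem_zpowers u))
  have hgrp : IsPGroup p (zpowers u ⊔ R : Subgroup G) :=
    sup_isPGroup (IsPGroup.iff_card.2 ⟨i, by rw [Nat.card_zpowers, hu]⟩) hRp
      (fun a _ => by rw [normalizer_eq_top]; exact mem_top _)
  obtain ⟨j, hj⟩ := (IsPGroup.iff_orderOf).1 hgrp ⟨_, hmem⟩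
  rw [← Subgroup.orderOf_coe] at hj
  have hc : x * (r⁻¹ * u) = (r⁻¹ * u) * x := by
    calc x * (r⁻¹ * u) = r⁻¹ * (r * x * r⁻¹) * u := by group
      _ = r⁻¹ * (u * x * u⁻¹) * u := by rw [he]
      _ = (r⁻¹ * u) * x := by group
  have := eq_one_of_commute_elem hCN R hRp hR1 hC (u := r⁻¹ * u) hj hx hx1 hc
  exact huR (inv_mul_eq_one.1 this ▸ hr)

/-- `p'`-subgroups act fixed-point-freely. -/
theorem fpf_of_coprime {Q : Subgroup G} (hQ : (Nat.card Q).Coprime p) :
    ∀ h ∈ Q, h ≠ 1 → R ⊓ centralizer ({h} : Set G) = ⊥ := by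
  intro h hh h1
  rw [eq_bot_iff]
  rintro r ⟨hr, hc⟩
  rw [mem_bot]
  by_contra hr1
  exact h1 (eq_one_of_commute_core hCN R hRp hR1 hC
    (hQ.coprime_dvd_left (Subgroup.orderOf_dvd_natCard Q hh)) hr hr1
    (mem_centralizer_singleton_iff.1 hc).symm)

omit hCN hR1 hC in
/-- Lifting an element of the quotient to a `p'`-element. -/
theorem exists_lift_coprime {g : G ⧸ R} (hg : (orderOf g).Coprime p) :
    ∃ x : G, (orderOf x).Coprime p ∧ (x : G ⧸ R) = g ∧ orderOf x = orderOf g := by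
  obtain ⟨y, rfl⟩ := QuotientGroup.mk_surjective g
  obtain ⟨k, hk⟩ := IsPGroup.iff_card.1 hRp
  have hpow : (y ^ orderOf (y : G ⧸ R)) ^ (p ^ k) = 1 := by
    have hm : y ^ orderOf (y : G ⧸ R) ∈ R := by
      rw [← QuotientGroup.eq_one_iff, QuotientGroup.mk_pow, pow_orderOf_eq_one]
    rw [← hk]
    exact orderOf_dvd_iff_pow_eq_one.1 (Subgroup.orderOf_dvd_natCard R hm)
  obtain ⟨a, ha⟩ : ∃ a : ℕ, p ^ k * a ≡ 1 [MOD orderOf (y : G ⧸ R)] := by
    rcases Nat.eq_or_lt_of_le (Nat.one_le_iff_ne_zero.2 (orderOf_pos (y : G ⧸ R)).ne') with h1 | h1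
    · exact ⟨0, by rw [← h1]; exact Nat.modEq_one⟩
    · obtain ⟨a, -, ha⟩ := Nat.exists_mul_mod_eq_one_of_coprime
        ((hg.pow_right k).symm) h1
      exact ⟨a, by rw [Nat.ModEq, ha, Nat.one_mod_eq_one.2 h1.ne']⟩
  refine ⟨y ^ (p ^ k * a), ?_, ?_, ?_⟩
  · refine hg.coprime_dvd_left (orderOf_dvd_of_pow_eq_one ?_)
    rw [← pow_mul, show p ^ k * a * orderOf (y : G ⧸ R) = orderOf (y : G ⧸ R) * p ^ k * a by ring,
      pow_mul, pow_mul, hpow, one_pow]
  · rw [QuotientGroup.mk_pow]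
    conv_rhs => rw [← pow_one (y : G ⧸ R)]
    exact pow_eq_pow_iff_modEq.2 ha
  · apply Nat.dvd_antisymm
    · apply orderOf_dvd_of_pow_eq_one
      rw [← pow_mul, show p ^ k * a * orderOf (y : G ⧸ R) = orderOf (y : G ⧸ R) * p ^ k * a by ring,
        pow_mul, pow_mul, hpow, one_pow]
    · have e : ((y ^ (p ^ k * a) : G) : G ⧸ R) = (y : G ⧸ R) := by
        rw [QuotientGroup.mk_pow]
        conv_rhs => rw [← pow_one (y : G ⧸ R)]
        exact pow_eq_pow_iff_modEq.2 ha
      calc orderOf (y : G ⧸ R) = orderOf ((y ^ (p ^ k * a) : G) : G ⧸ R) := by rw [e]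
        _ ∣ orderOf (y ^ (p ^ k * a)) := orderOf_map_dvd (QuotientGroup.mk' R) _

omit hCN hR1 hC in
/-- Lifting a `p`-element. -/
theorem exists_lift_pElem {g : G ⧸ R} {i : ℕ} (hg : orderOf g = p ^ i) :
    ∃ (u : G) (j : ℕ), orderOf u = p ^ j ∧ (u : G ⧸ R) = g := by
  obtain ⟨u, rfl⟩ := QuotientGroup.mk_surjective g
  obtain ⟨k, hk⟩ := IsPGroup.iff_card.1 hRp
  have hm : u ^ (p ^ i) ∈ R := by
    rw [← QuotientGroup.eq_one_iff, QuotientGroup.mk_pow, ← hg, pow_orderOf_eq_one]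
  have : u ^ (p ^ (i + k)) = 1 := by
    rw [pow_add, pow_mul, ← hk]
    exact orderOf_dvd_iff_pow_eq_one.1 (Subgroup.orderOf_dvd_natCard R hm)
  obtain ⟨j, -, hj⟩ := (Nat.dvd_prime_pow hp.out).1 (orderOf_dvd_of_pow_eq_one this)
  exact ⟨u, j, hj, rfl⟩

/-- Commuting `p`-elements and `p'`-elements of the quotient. -/
theorem quotient_commute {a b : G ⧸ R} {i : ℕ} (ha : orderOf a = p ^ i)
    (hb : (orderOf b).Coprime p) (hb1 : b ≠ 1) (h : a * b = b * a) : a = 1 := by
  obtain ⟨u, j, hu, rfl⟩ := exists_lift_pElem R hRp ha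
  obtain ⟨x, hx, rfl, -⟩ := exists_lift_coprime R hRp hb
  rw [QuotientGroup.eq_one_iff]
  refine mem_core_of_commute_mod hCN R hRp hR1 hC hu hx (fun h1 => hb1 (by rw [h1]; rfl)) ?_
  rw [← QuotientGroup.eq, QuotientGroup.mk_mul, QuotientGroup.mk_mul, QuotientGroup.mk_inv, h,
    mul_inv_cancel_right]

/-- The quotient by a self-centralising normal `p`-subgroup is again CN. -/
theorem quotient_isCNGroup : Cfsg.IsCNGroup (G ⧸ R) := by
  intro g hg
  set C := centralizer ({g} : Set (G ⧸ R))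
  -- a nontrivial part of `g`
  by_cases hgp : ∃ i, orderOf g = p ^ i
  · obtain ⟨i, hi⟩ := hgp
    have hCp : IsPGroup p C := by
      rw [IsPGroup.iff_orderOf]
      intro c
      rw [← Subgroup.orderOf_coe]
      set o := orderOf (c : G ⧸ R) with ho
      have hopos : 0 < o := orderOf_pos _
      refine ⟨o.factorization p, ?_⟩
      by_contra hne
      set m := ordCompl[p] o with hm
      have hmne : m ≠ 1 := by
        intro h1
        have := Nat.ordProj_mul_ordCompl_eq_self o p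
        rw [← hm, h1, mul_one] at this
        exact hne this.symm
      have hord : orderOf ((c : G ⧸ R) ^ (ordProj[p] o)) = m := by
        rw [orderOf_pow, ← ho, Nat.gcd_eq_right (Nat.ordProj_dvd o p)]
      refine hg (quotient_commute hCN R hRp hR1 hC hi (b := (c : G ⧸ R) ^ (ordProj[p] o))
        (by rw [hord]; exact (Nat.coprime_ordCompl hp.out hopos.ne').symm) ?_ ?_)
      · intro h
        rw [h, orderOf_one] at hord
        exact hmne hord.symm
      · exact ((Commute.pow_left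
          (show Commute (c : G ⧸ R) g from mem_centralizer_singleton_iff.1 c.2) _).symm).eq
    exact hCp.isNilpotent
  · -- then centralising elements are p-regular
    have hgcop : (orderOf g).Coprime p := by
      rw [Nat.coprime_comm, hp.out.coprime_iff_not_dvd]
      intro hd
      set o := orderOf g with ho
      have hopos : 0 < o := orderOf_pos g
      have hk : o.factorization p ≠ 0 :=
        (hp.out.factorization_pos_of_dvd hopos.ne' hd).ne'
      have h1 : orderOf (g ^ ordCompl[p] o) = p ^ o.factorization p := by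
        rw [orderOf_pow, ← ho, Nat.gcd_eq_right (Nat.ordCompl_dvd o p)]
        exact Nat.div_div_self (Nat.ordProj_dvd o p) hopos.ne'
      have h2 : orderOf (g ^ ordProj[p] o) = ordCompl[p] o := by
        rw [orderOf_pow, ← ho, Nat.gcd_eq_right (Nat.ordProj_dvd o p)]
      have hm : ordCompl[p] o ≠ 1 := by
        intro h
        apply hgp
        refine ⟨o.factorization p, ?_⟩
        have := Nat.ordProj_mul_ordCompl_eq_self o p
        rw [h, mul_one] at this
        exact this.symm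
      have := quotient_commute hCN R hRp hR1 hC h1 (b := g ^ ordProj[p] o)
        (by rw [h2]; exact (Nat.coprime_ordCompl hp.out hopos.ne').symm)
        (fun h => hm (by rw [← h2, h, orderOf_one]))
        (Commute.pow_pow_self g _ _).eq
      rw [this, orderOf_one] at h1
      exact absurd h1.symm (Nat.one_lt_pow hk hp.out.one_lt).ne'
    obtain ⟨x, hx, rfl, -⟩ := exists_lift_coprime R hRp hgcop
    have hx1 : x ≠ 1 := fun h => hg (by rw [h]; rfl)
    haveI := hCN x hx1
    let f : centralizer ({x} : Set G) →* C :=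
      { toFun := fun y => ⟨((y : G) : G ⧸ R), mem_centralizer_singleton_iff.2 (by
          rw [← QuotientGroup.mk_mul, ← QuotientGroup.mk_mul,
            mem_centralizer_singleton_iff.1 y.2])⟩
        map_one' := rfl
        map_mul' := fun _ _ => rfl }
    refine nilpotent_of_surjective f ?_
    rintro ⟨c, hc⟩
    obtain ⟨y, rfl⟩ := QuotientGroup.mk_surjective c
    have hy : x⁻¹ * (y * x * y⁻¹) ∈ R := by
      rw [← QuotientGroup.eq, QuotientGroup.mk_mul, QuotientGroup.mk_mul, QuotientGroup.mk_inv,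
        mem_centralizer_singleton_iff.1 hc, mul_inv_cancel_right]
    obtain ⟨r, hr, he⟩ := exists_conj_coset hCN R hRp hR1 hC hx hx1 hy
    refine ⟨⟨r⁻¹ * y, mem_centralizer_singleton_iff.2 ?_⟩, Subtype.ext ?_⟩
    · calc r⁻¹ * y * x = r⁻¹ * (y * x * y⁻¹) * y := by group
        _ = r⁻¹ * (r * x * r⁻¹) * y := by rw [he]
        _ = x * (r⁻¹ * y) := by group
    · show ((r⁻¹ * y : G) : G ⧸ R) = (y : G ⧸ R)
      rw [QuotientGroup.eq]
      have : r ∈ R := hr
      simpa [mul_assoc] using hRn.conj_mem r this y⁻¹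

end Cfsg.Agent.CharInd.CN
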