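import Cfsg.Agent.CharInd.CN.ThreeStep
import Cfsg.Agent.Cores.Fitting

/-!
# Solvable groups of odd order with nilpotent centralisers and a self-centralising p-core
-/

namespace Cfsg.Agent.CharInd.CN

open Subgroup

universe u

set_option maxHeartbeats 200000

section General

variable {G : Type u} [Group G]

/-- Conjugation acts on a normal cyclic subgroup by powers. -/
theorem exists_conj_eq_zpow {N : Subgroup G} (hN : N.Normal) [hc : IsCyclic N] (g : G) :
    ∃ a : ℤ, ∀ n ∈ N, g * n * g⁻¹ = n ^ a := by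
  obtain ⟨⟨d, hd⟩, hgen⟩ := IsCyclic.exists_generator (α := N)
  obtain ⟨a, ha⟩ := mem_zpowers_iff.1 (hgen ⟨g * d * g⁻¹, hN.conj_mem d hd g⟩)
  have ha' : d ^ a = g * d * g⁻¹ := congrArg Subtype.val ha
  refine ⟨a, fun n hn => ?_⟩
  obtain ⟨j, hj⟩ := mem_zpowers_iff.1 (hgen ⟨n, hn⟩)
  have hj' : d ^ j = n := congrArg Subtype.val hj
  rw [← hj', ← conj_zpow, ← ha', ← zpow_mul, ← zpow_mul, mul_comm]

/-- The derived subgroup centralises normal cyclic subgroups. -/
theorem commutator_le_centralizer_of_cyclic {N : Subgroup G} (hN : N.Normal) [IsCyclic N] :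
    commutator G ≤ centralizer (N : Set G) := by
  rw [commutator_def, commutator_le]
  intro g _ h _
  rw [mem_centralizer_iff]
  intro n hn
  obtain ⟨a, ha⟩ := exists_conj_eq_zpow hN g
  obtain ⟨b, hb⟩ := exists_conj_eq_zpow hN h
  have key : g * h * n * (g * h)⁻¹ = h * g * n * (h * g)⁻¹ := by
    calc g * h * n * (g * h)⁻¹ = g * (h * n * h⁻¹) * g⁻¹ := by group
      _ = n ^ (b * a) := by rw [hb n hn, ha _ (N.zpow_mem hn b), zpow_mul]
      _ = n ^ (a * b) := by rw [mul_comm]
      _ = h * (g * n * g⁻¹) * h⁻¹ := by rw [ha n hn, hb _ (N.zpow_mem hn a), zpow_mul]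
      _ = h * g * n * (h * g)⁻¹ := by group
  have key' : g * h * g⁻¹ * h⁻¹ * (h * g * n * (h * g)⁻¹) * (g * h * g⁻¹ * h⁻¹)⁻¹
      = h * g * n * (h * g)⁻¹ := by
    conv_rhs => rw [← key]
    group
  -- every element of `N` is such a conjugate
  obtain ⟨m, hm, rfl⟩ : ∃ m ∈ N, h * g * m * (h * g)⁻¹ = n :=
    ⟨(h * g)⁻¹ * n * (h * g), by simpa using hN.conj_mem n hn (h * g)⁻¹, by group⟩
  have key2 : g * h * m * (g * h)⁻¹ = h * g * m * (h * g)⁻¹ := by
    calc g * h * m * (g * h)⁻¹ = g * (h * m * h⁻¹) * g⁻¹ := by group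
      _ = m ^ (b * a) := by rw [hb m hm, ha _ (N.zpow_mem hm b), zpow_mul]
      _ = m ^ (a * b) := by rw [mul_comm]
      _ = h * (g * m * g⁻¹) * h⁻¹ := by rw [ha m hm, hb _ (N.zpow_mem hm a), zpow_mul]
      _ = h * g * m * (h * g)⁻¹ := by group
  rw [commutatorElement_def]
  calc h * g * m * (h * g)⁻¹ * (g * h * g⁻¹ * h⁻¹)
      = g * h * m * (g * h)⁻¹ * (g * h * g⁻¹ * h⁻¹) := by rw [key2]
    _ = g * h * g⁻¹ * h⁻¹ * (h * g * m * (h * g)⁻¹) := by group

/-- With trivial `p`-core, the Fitting subgroup has no `p`-elements. -/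
theorem eq_one_of_mem_fitting [Finite G] {p : ℕ} [Fact p.Prime] (h : Cfsg.pCore p G = ⊥) {x : G}
    (hx : x ∈ Cfsg.fittingSubgroup G) {i : ℕ} (hxp : orderOf x = p ^ i) : x = 1 := by
  set F := Cfsg.fittingSubgroup G
  have hF : Group.IsNilpotent F := Cores.fittingSubgroup_isNilpotent
  have hgood : Good p F := good_of_nilpotent hF
  obtain ⟨S, hxS, hS⟩ := exists_isPMax (p := p) (X := F) (A := zpowers x) (zpowers_le.2 hx)
    (IsPGroup.iff_card.2 ⟨i, by rw [Nat.card_zpowers, hxp]⟩)
  have hSn : S.Normal := ⟨fun a ha g => le_of_good hgood hS (A := S.map (MulAut.conj g).toMonoidHom)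
    (by
      rintro _ ⟨b, hb, rfl⟩
      exact (Cores.fittingSubgroup_normal_inst G).conj_mem b (hS.1 hb) g)
    (hS.2.1.map _) ⟨a, ha, rfl⟩⟩
  have := (Cores.le_pCore hSn hS.2.1).trans h.le (hxS (mem_zpowers x))
  simpa using this

theorem centralizer_ne_bot_of_fitting [Finite G] [Group.IsSolvable G] [Nontrivial G] :
    Cfsg.fittingSubgroup G ≠ ⊥ := by
  intro h
  have h2 := Cores.centralizer_fittingSubgroup_le (G := G)
  rw [h] at h2
  have : (⊤ : Subgroup G) ≤ ⊥ := le_trans (fun x _ => by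
    rw [mem_centralizer_iff]; intro y hy; rw [mem_bot.1 hy, one_mul, mul_one]) h2
  exact bot_ne_top (le_bot_iff.1 this).symm

end General

variable {G : Type u} [Group G] [Finite G] [Group.IsSolvable G] {p : ℕ} [hp : Fact p.Prime]
  (hCN : Cfsg.IsCNGroup G) (hodd : Odd (Nat.card G)) (hR1 : Cfsg.pCore p G ≠ ⊥)
  (hC : centralizer (Cfsg.pCore p G : Set G) ≤ Cfsg.pCore p G)

include hCN hodd hR1 hC

/-- The cores of the quotient are cyclic. -/
theorem isCyclic_pCore_quotient {q : ℕ} [hq : Fact q.Prime] :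
    IsCyclic (Cfsg.pCore q (G ⧸ Cfsg.pCore p G)) := by
  set R := Cfsg.pCore p G with hR
  by_cases hb : Cfsg.pCore q (G ⧸ R) = ⊥
  · rw [hb]; infer_instance
  have hqp : q ≠ p := by
    intro h
    apply hb
    subst h
    exact Cores.pCore_quotient_pCore_eq_bot
  set K := (Cfsg.pCore q (G ⧸ R)).comap (QuotientGroup.mk' R) with hK
  obtain ⟨k, hk⟩ := IsPGroup.iff_card.1 (Cores.pCore_isPGroup (p := q) (G := G ⧸ R))
  obtain ⟨l, hl⟩ := IsPGroup.iff_card.1 (Cores.pCore_isPGroup (p := p) (G := G))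
  have hcard : Nat.card K = p ^ l * q ^ k := by
    rw [hK, Cores.card_comap_mk_eq, hk]; rw [← hl]
  have hk0 : k ≠ 0 := by
    rintro rfl
    exact hb (Subgroup.card_eq_one.1 (by rw [hk, pow_zero]))
  obtain ⟨Q⟩ : Nonempty (Sylow q K) := inferInstance
  set Q' := (Q : Subgroup K).map K.subtype with hQ'
  have hQc : Nat.card Q' = q ^ k := by
    rw [hQ', Nat.card_congr ((Q : Subgroup K).equivMapOfInjective _ K.subtype_injective).toEquiv.symm,
      Q.card_eq_multiplicity, hcard]
    congr 1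
    rw [Nat.factorization_mul (pow_ne_zero _ hp.out.ne_zero) (pow_ne_zero _ hq.out.ne_zero),
      Finsupp.add_apply, hp.out.factorization_pow, hq.out.factorization_pow,
      Finsupp.single_apply, if_neg hqp.symm, Finsupp.single_eq_same, zero_add]
  have hcop : (Nat.card Q').Coprime p := by
    rw [hQc]; exact ((Nat.coprime_primes hq.out hp.out).2 hqp).pow_left k
  have hfpf : ∀ h ∈ Q', h ≠ 1 → R ⊓ centralizer {h} = ⊥ := by
    intro h hh hh1
    rw [eq_bot_iff]
    rintro r ⟨hr, hrc⟩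
    rw [mem_bot]
    by_contra hr1
    exact hh1 (eq_one_of_commute_core hCN R Cores.pCore_isPGroup hR1 hC
      (hcop.coprime_dvd_left (Subgroup.orderOf_dvd_natCard Q' hh)) hr hr1
      (mem_centralizer_singleton_iff.1 hrc).symm)
  obtain ⟨P⟩ : Nonempty (Sylow q Q') := inferInstance
  have hPtop : (P : Subgroup Q') = ⊤ :=
    (P.is_maximal' ((IsPGroup.iff_card.2 ⟨k, hQc⟩).to_subgroup ⊤) le_top).symm
  have hq2 : q ≠ 2 := by
    rintro rfl
    have h2 : 2 ∣ Nat.card G :=
      ((dvd_pow_self 2 hk0).trans (hQc.symm.dvd)).trans (Subgroup.card_subgroup_dvd_card Q')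
    exact absurd hodd (Nat.not_odd_iff_even.2 (even_iff_two_dvd.2 h2))
  have hcyc : IsCyclic Q' := by
    rcases FrobeniusCompl.sylow_cyclic_or_quaternion (K := R) (H := Q')
      (fun x _ => by rw [normalizer_eq_top]; exact mem_top x) hR1 hfpf P with h | ⟨h, -⟩
    · exact isCyclic_of_surjective ((P : Subgroup Q').subtype) (fun x => ⟨⟨x, hPtop ▸ mem_top x⟩, rfl⟩)
    · exact absurd h hq2
  let f : Q' →* Cfsg.pCore q (G ⧸ R) :=
    { toFun := fun x => ⟨((x : G) : G ⧸ R), by
        obtain ⟨_, ⟨y, -, rfl⟩⟩ := x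
        exact y.2⟩
      map_one' := rfl
      map_mul' := fun _ _ => rfl }
  have hinj : Function.Injective f := by
    rw [← MonoidHom.ker_eq_bot_iff, eq_bot_iff]
    intro x hx
    have hxR : (x : G) ∈ R := (QuotientGroup.eq_one_iff _).1 (congrArg Subtype.val hx)
    rw [mem_bot, ← OneMemClass.coe_eq_one, ← orderOf_eq_one_iff]
    exact Nat.eq_one_of_dvd_coprimes (hcop.pow_right l) (Subgroup.orderOf_dvd_natCard Q' x.2)
      (hl ▸ Subgroup.orderOf_dvd_natCard R hxR)
  exact isCyclic_of_surjective f ((Nat.bijective_iff_injective_and_card f).2 ⟨hinj, by rw [hQc, hk]⟩).2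

/-- The `p`-elements of the derived subgroup lie in the `p`-core. -/
theorem mem_core_of_commutator {x : G} (hx : x ∈ commutator G) {i : ℕ} (hxp : orderOf x = p ^ i) :
    x ∈ Cfsg.pCore p G := by
  set R := Cfsg.pCore p G with hR
  haveI : Group.IsSolvable (G ⧸ R) := solvable_of_surjective (QuotientGroup.mk'_surjective R)
  have hle : commutator (G ⧸ R) ≤ Cfsg.fittingSubgroup (G ⧸ R) := by
    refine le_trans ?_ Cores.centralizer_fittingSubgroup_le
    rw [le_centralizer_iff, Cores.fittingSubgroup_eq_iSup_pCore]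
    refine iSup_le fun q => ?_
    haveI : Fact (q : ℕ).Prime := ⟨q.2⟩
    haveI := isCyclic_pCore_quotient hCN hodd hR1 hC (q := q)
    rw [le_centralizer_iff]
    exact commutator_le_centralizer_of_cyclic inferInstance
  have hmem : (x : G ⧸ R) ∈ commutator (G ⧸ R) := by
    have := mem_map_of_mem (QuotientGroup.mk' R) hx
    rw [commutator_def, map_commutator] at this
    exact commutator_mono le_top le_top this
  obtain ⟨j, -, hj⟩ := (Nat.dvd_prime_pow hp.out).1
    (hxp ▸ orderOf_map_dvd (QuotientGroup.mk' R) x)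
  exact (QuotientGroup.eq_one_iff x).1
    (eq_one_of_mem_fitting Cores.pCore_quotient_pCore_eq_bot (hle hmem) hj)

/-- An abelian `p`-subgroup outside the `p`-core is smaller than one inside it. -/
theorem exists_larger_abelian {A : Subgroup G} (hA : IsPGroup p A)
    (hAc : ∀ a ∈ A, ∀ b ∈ A, a * b = b * a) (hAR : ¬ A ≤ Cfsg.pCore p G) :
    ∃ B : Subgroup G, B ≤ Cfsg.pCore p G ∧ (∀ a ∈ B, ∀ b ∈ B, a * b = b * a) ∧
      Nat.card A < Nat.card B := by
  classical
  set R := Cfsg.pCore p G with hR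
  have hRp : IsPGroup p R := Cores.pCore_isPGroup
  haveI : Group.IsSolvable (G ⧸ R) := solvable_of_surjective (QuotientGroup.mk'_surjective R)
  obtain ⟨a0, ha0, ha0R⟩ := SetLike.not_le_iff_exists.1 hAR
  haveI : Nontrivial (G ⧸ R) := ⟨⟨(a0 : G ⧸ R), 1, fun h => ha0R ((QuotientGroup.eq_one_iff _).1 h)⟩⟩
  -- a normal subgroup of prime order of the quotient
  obtain ⟨q, hq, hqp, c', hc', hnorm⟩ : ∃ q : ℕ, q.Prime ∧ q ≠ p ∧ ∃ c : G ⧸ R,
      orderOf c = q ∧ ∀ g : G ⧸ R, ∃ k : ℤ, g * c * g⁻¹ = c ^ k := by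
    have hne := centralizer_ne_bot_of_fitting (G := G ⧸ R)
    rw [Cores.fittingSubgroup_eq_iSup_pCore] at hne
    simp only [ne_eq, iSup_eq_bot, not_forall] at hne
    obtain ⟨⟨q, hq⟩, hqne⟩ := hne
    haveI : Fact q.Prime := ⟨hq⟩
    haveI := isCyclic_pCore_quotient hCN hodd hR1 hC (q := q)
    have hqp : q ≠ p := by
      intro h
      apply hqne
      subst h
      exact Cores.pCore_quotient_pCore_eq_bot
    obtain ⟨k, hk⟩ := IsPGroup.iff_card.1 (Cores.pCore_isPGroup (p := q) (G := G ⧸ R))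
    obtain ⟨c, hc⟩ := exists_prime_orderOf_dvd_card' (G := Cfsg.pCore q (G ⧸ R)) q (hk ▸ dvd_pow_self q (by
      rintro rfl
      exact hqne (Subgroup.card_eq_one.1 (by rw [hk, pow_zero]))))
    refine ⟨q, hq, hqp, c, by rw [Subgroup.orderOf_coe, hc], fun g => ?_⟩
    obtain ⟨k, hk'⟩ := exists_conj_eq_zpow (inferInstance : (Cfsg.pCore q (G ⧸ R)).Normal) g
    exact ⟨k, hk' c c.2⟩
  obtain ⟨c, hccop, hcc, hco⟩ := exists_lift_coprime R hRp (g := c')
    (by rw [hc']; exact (Nat.coprime_primes hq hp.out).2 hqp)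
  have hc1 : c ≠ 1 := by
    intro h
    rw [h, orderOf_one, hc'] at hco
    exact hq.one_lt.ne hco
  haveI hCnor : (zpowers c').Normal := ⟨fun n hn g => by
    obtain ⟨j, rfl⟩ := mem_zpowers_iff.1 hn
    obtain ⟨k, hk⟩ := hnorm g
    rw [← conj_zpow, hk, ← zpow_mul]
    exact zpow_mem (mem_zpowers c') _⟩
  haveI : Fact (Nat.card (zpowers c')).Prime := ⟨by rw [Nat.card_zpowers, hc']; exact hq⟩
  haveI : IsCyclic (MulAut (zpowers c')) :=
    isCyclic_of_surjective (IsCyclic.mulAutMulEquiv (zpowers c')).symm.toMonoidHom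
      (IsCyclic.mulAutMulEquiv (zpowers c')).symm.surjective
  set Ab := A.map (QuotientGroup.mk' R) with hAb
  haveI hAbc : IsCyclic Ab := by
    refine isCyclic_of_injective ((MulAut.conjNormal (H := zpowers c')).comp Ab.subtype) ?_
    rw [← MonoidHom.ker_eq_bot_iff, eq_bot_iff]
    rintro ⟨a, ha⟩ hk
    obtain ⟨a', ha', rfl⟩ := ha
    obtain ⟨i, hi⟩ := (IsPGroup.iff_orderOf).1 hA ⟨a', ha'⟩
    rw [← Subgroup.orderOf_coe] at hi
    obtain ⟨j, -, hj⟩ := (Nat.dvd_prime_pow hp.out).1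
      ((show orderOf a' = p ^ i from hi) ▸ orderOf_map_dvd (QuotientGroup.mk' R) a')
    have h2 := congrArg Subtype.val (DFunLike.congr_fun (MonoidHom.mem_ker.1 hk) ⟨c', mem_zpowers c'⟩)
    simp only [MonoidHom.comp_apply, MulAut.conjNormal_apply, Subgroup.coe_subtype,
      MulAut.one_apply] at h2
    refine mem_bot.2 (Subtype.ext ?_)
    exact quotient_commute hCN R hRp hR1 hC hj (b := c')
      (by rw [hc']; exact (Nat.coprime_primes hq hp.out).2 hqp)
      (fun h => by rw [h, orderOf_one] at hc'; exact hq.one_lt.ne hc')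
      (mul_inv_eq_iff_eq_mul.1 h2)
  obtain ⟨g0, hg0⟩ := IsCyclic.exists_generator (α := Ab)
  obtain ⟨a, ha, hag⟩ := g0.2
  obtain ⟨m, hm⟩ := IsPGroup.iff_card.1 (hA.map (QuotientGroup.mk' R))
  have haord : orderOf (a : G ⧸ R) = p ^ m := by
    have := orderOf_eq_card_of_forall_mem_zpowers hg0
    rw [← Subgroup.orderOf_coe, ← hag] at this
    exact this.trans hm
  have hm0 : m ≠ 0 := by
    rintro rfl
    rw [pow_zero] at hm
    exact ha0R ((QuotientGroup.eq_one_iff _).1
      (by simpa using (Subgroup.card_eq_one.1 hm).le (mem_map_of_mem (QuotientGroup.mk' R) ha0)))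
  -- the module
  set Z := (center R).map R.subtype with hZ
  haveI hZn : Z.Normal := Cores.normal_map_subtype_of_characteristic _
  have hZR : Z ≤ R := map_subtype_le _
  have hZc : ∀ z ∈ Z, ∀ r ∈ R, r * z = z * r := by
    rintro _ ⟨z, hz, rfl⟩ r hr
    exact congrArg Subtype.val (mem_center_iff.1 hz ⟨r, hr⟩)
  letI : CommGroup Z := { (inferInstance : Group Z) with
    mul_comm := fun x y => Subtype.ext (hZc y y.2 x (hZR x.2)) }
  let ρ : G →* Module.End ℤ (Additive Z) :=
    { toFun := fun g => (MonoidHom.toAdditive (MulAut.conjNormal g).toMonoidHom).toIntLinearMap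
      map_one' := by
        refine LinearMap.ext fun w => Additive.toMul.injective (Subtype.ext ?_)
        show (1 : G) * ((Additive.toMul w : Z) : G) * (1 : G)⁻¹ = _
        simp
      map_mul' := fun x y => by
        refine LinearMap.ext fun w => Additive.toMul.injective (Subtype.ext ?_)
        show x * y * ((Additive.toMul w : Z) : G) * (x * y)⁻¹ =
          x * (y * ((Additive.toMul w : Z) : G) * y⁻¹) * x⁻¹
        group }
  have hρ : ∀ g w, ((Additive.toMul (ρ g w) : Z) : G) = g * (Additive.toMul w : Z) * g⁻¹ :=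
    fun g w => rfl
  have hρR : ∀ r ∈ R, ρ r = 1 := by
    intro r hr
    refine LinearMap.ext fun w => Additive.toMul.injective (Subtype.ext ?_)
    rw [hρ, hZc _ (Additive.toMul w).2 r hr, mul_inv_cancel_right]
    rfl
  have hρeq : ∀ g h : G, (g : G ⧸ R) = h → ρ g = ρ h := by
    intro g h e
    rw [show h = g * (g⁻¹ * h) by group, map_mul, hρR _ (QuotientGroup.eq.1 e), mul_one]
  have hZne : Z ≠ ⊥ := by
    rw [hZ, Ne, map_eq_bot_iff_of_injective _ R.subtype_injective]
    haveI : Nontrivial R := (R.bot_or_nontrivial).resolve_left hR1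
    exact hRp.bot_lt_center.ne'
  haveI : Nontrivial Z := (Z.bot_or_nontrivial).resolve_left hZne
  have hW : ∀ w : Additive Z, ∃ i : ℕ, p ^ i • w = 0 := fun w => by
    obtain ⟨i, hi⟩ := (hRp.to_le hZR) (Additive.toMul w)
    exact ⟨i, Additive.toMul.injective (by rw [toMul_nsmul, hi]; rfl)⟩
  have hα : (ρ a) ^ (p ^ m) = 1 := by
    rw [← map_pow]
    exact hρR _ ((QuotientGroup.eq_one_iff _).1 (by
      rw [QuotientGroup.mk_pow, ← haord, pow_orderOf_eq_one]))
  have hγ : (ρ c) ^ q = 1 := by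
    rw [← map_pow, show q = orderOf c by rw [hco, hc'], pow_orderOf_eq_one, map_one]
  have hfree : ∀ w, ρ c w = w → w = 0 := by
    intro w hw
    by_contra hw0
    refine hc1 (eq_one_of_commute_core hCN R hRp hR1 hC hccop (hZR (Additive.toMul w).2)
      (fun h => hw0 (Additive.toMul.injective (Subtype.ext h))) ?_)
    have := congrArg (fun v => ((Additive.toMul v : Z) : G)) hw
    simp only [hρ] at this
    exact mul_inv_eq_iff_eq_mul.1 this
  have hpm : 1 ≤ p ^ m := Nat.one_le_pow _ _ hp.out.pos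
  have hmain := pow_le_card_range (p := p) hW (ρ a) (ρ c) (r := q) (n := p ^ m) (m := m) hq hqp hα hγ
    hfree hpm (by
      intro i hi0 hi
      obtain ⟨k, hk⟩ := hnorm ((a : G ⧸ R) ^ i)
      have hk' : (a : G ⧸ R) ^ i * c' * ((a : G ⧸ R) ^ i)⁻¹ = c' ^ (k % (q : ℤ)).toNat := by
        rw [hk, ← zpow_natCast c' (k % (q : ℤ)).toNat,
          Int.toNat_of_nonneg (Int.emod_nonneg _ (by exact_mod_cast hq.ne_zero)),
          ← zpow_mod_orderOf, hc']
      refine ⟨(k % (q : ℤ)).toNat, ?_, ?_⟩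
      · rw [← map_pow, ← map_pow, ← map_mul, ← map_mul]
        apply hρeq
        simp only [QuotientGroup.mk_mul, QuotientGroup.mk_pow, hcc]
        exact mul_inv_eq_iff_eq_mul.1 hk'
      · intro h1
        have hlt : (k % (q : ℤ)).toNat < q := by
          have := Int.emod_lt_of_pos k (show (0 : ℤ) < q by exact_mod_cast hq.pos)
          have := hq.pos
          have : (0 : ℤ) ≤ k % (q : ℤ) := Int.emod_nonneg _ (by omega)
          rw [Int.toNat_lt this]
          assumption
        rw [Nat.mod_eq_of_lt hlt] at h1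
        rw [h1, pow_one] at hk'
        obtain ⟨j, -, hj⟩ := (Nat.dvd_prime_pow hp.out).1
          (haord ▸ orderOf_pow_dvd (x := (a : G ⧸ R)) i)
        have := quotient_commute hCN R hRp hR1 hC hj (b := c')
          (by rw [hc']; exact (Nat.coprime_primes hq hp.out).2 hqp)
          (fun h => by rw [h, orderOf_one] at hc'; exact hq.one_lt.ne hc')
          (mul_inv_eq_iff_eq_mul.1 hk')
        exact pow_ne_one_of_lt_orderOf hi0.ne' (haord ▸ hi) this)
  refine ⟨A ⊓ R ⊔ Z, sup_le inf_le_right hZR, ?_, ?_⟩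
  · have hset : A ⊓ R ⊔ Z = closure (((A ⊓ R : Subgroup G) : Set G) ∪ Z) := by
      rw [Subgroup.closure_union, closure_eq, closure_eq]
    rw [hset]
    haveI : IsMulCommutative (closure (((A ⊓ R : Subgroup G) : Set G) ∪ Z)) := by
      refine isMulCommutative_closure ?_
      rintro x (hx | hx) y (hy | hy)
      · exact hAc x hx.1 y hy.1
      · exact hZc y hy x hx.2
      · exact (hZc x hx y hy.2).symm
      · exact hZc y hy x (hZR hx)
    intro x hx y hy
    exact congrArg Subtype.val (IsMulCommutative.is_comm.comm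
      (⟨x, hx⟩ : closure (((A ⊓ R : Subgroup G) : Set G) ∪ Z)) ⟨y, hy⟩)
  have hcA : Nat.card A = Nat.card (A ⊓ R : Subgroup G) * p ^ m := by
    rw [← hm, ← relIndex_bot_left A, ← relIndex_bot_left (A ⊓ R),
      ← relIndex_mul_relIndex ⊥ (A ⊓ R) A bot_le inf_le_left, inf_comm A R, inf_relIndex_right]
    congr 1
    have := relIndex_ker (K := A) (QuotientGroup.mk' R)
    rw [QuotientGroup.ker_mk'] at this
    exact this
  set D := A ⊓ R with hD
  have hcB : Nat.card (D ⊔ Z : Subgroup G) * Nat.card (Z ⊓ D : Subgroup G) =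
      Nat.card D * Nat.card Z := by
    have h1 := relIndex_mul_relIndex ⊥ Z (D ⊔ Z) bot_le le_sup_right
    have h2 := relIndex_mul_relIndex ⊥ (Z ⊓ D) D bot_le inf_le_right
    rw [relIndex_sup_right, relIndex_bot_left, relIndex_bot_left] at h1
    rw [inf_relIndex_right, relIndex_bot_left, relIndex_bot_left] at h2
    rw [← h1, ← h2]; ring
  have hker : Nat.card (Z ⊓ D : Subgroup G) ≤ Nat.card (LinearMap.ker (ρ a - 1)) := by
    refine Nat.card_le_card_of_injective (fun z => ⟨Additive.ofMul (⟨z, z.2.1⟩ : Z), ?_⟩) ?_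
    · rw [LinearMap.mem_ker, LinearMap.sub_apply, sub_eq_zero]
      refine Additive.toMul.injective (Subtype.ext ?_)
      rw [hρ]
      show a * (z : G) * a⁻¹ = z
      rw [hAc a ha z z.2.2.1, mul_inv_cancel_right]
    · intro x y e
      have e1 := congrArg Subtype.val e
      have e2 : (⟨(x : G), x.2.1⟩ : Z) = ⟨(y : G), y.2.1⟩ := Additive.ofMul.injective e1
      exact Subtype.ext (congrArg (fun w : Z => (w : G)) e2)
  have hZcard : Nat.card (Additive Z) = Nat.card Z := rfl
  rw [hZcard] at hmain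
  have hpow : p ^ m < p ^ (p ^ m - 1) := by
    have hp3 : 3 ≤ p := by
      rcases hp.out.eq_two_or_odd' with rfl | ho
      · exfalso
        obtain ⟨l, hl⟩ := IsPGroup.iff_card.1 hRp
        have hl0 : l ≠ 0 := by
          rintro rfl
          exact hR1 (Subgroup.card_eq_one.1 (by rw [hl, pow_zero]))
        exact Nat.not_odd_iff_even.2 (even_iff_two_dvd.2
          ((dvd_pow_self 2 hl0).trans (hl.symm.dvd.trans (Subgroup.card_subgroup_dvd_card R)))) hodd
      · obtain ⟨j, rfl⟩ := ho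
        have := hp.out.two_le
        omega
    have hn2 : 2 ≤ p ^ m := hp.out.two_le.trans (Nat.le_self_pow hm0 p)
    have key : ∀ j, 1 ≤ j → j + 1 < p ^ j := by
      intro j hj
      induction j, hj using Nat.le_induction with
      | base => rw [pow_one]; omega
      | succ j _ ih => rw [pow_succ]; nlinarith
    have := key (p ^ m - 1) (by omega)
    omega
  have hpos : 0 < Nat.card (Z ⊓ D : Subgroup G) := Nat.card_pos
  have hDpos : 0 < Nat.card D := Nat.card_pos
  rw [hcA]
  refine Nat.lt_of_mul_lt_mul_right (a := Nat.card (Z ⊓ D : Subgroup G)) ?_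
  rw [hcB]
  calc Nat.card D * p ^ m * Nat.card (Z ⊓ D : Subgroup G)
      < Nat.card D * p ^ (p ^ m - 1) * Nat.card (Z ⊓ D : Subgroup G) :=
        Nat.mul_lt_mul_of_pos_right (Nat.mul_lt_mul_of_pos_left hpow hDpos) hpos
    _ ≤ Nat.card D * (p ^ (p ^ m - 1) * Nat.card (LinearMap.ker (ρ a - 1))) := by
        rw [mul_assoc]; exact Nat.mul_le_mul_left _ (Nat.mul_le_mul_left _ hker)
    _ ≤ Nat.card D * Nat.card Z := Nat.mul_le_mul_left _ hmain

end Cfsg.Agent.CharInd.CN
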